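import Mathlib
import Cfsg.Agent.Solvable.Hall
import Cfsg.Agent.S0044
import Cfsg.Agent.Lib.Cores
import Cfsg.Agent.H56.Exc.Fac

set_option autoImplicit false
set_option linter.unusedSectionVars false

/-!
# Factorisations with a solvable factor: tools for `G₂(3)`, `G₂(4)` (helper325)

* `exists_two` : a solvable group of order `2 ^ a 25`, `a ≥ 10`, has a nontrivial normal `2`-subgroup;
* `two_dvd_of_conj` : a factorisation `G = A B` with one class of involutions: `2 |G : B|` divides `|A|`;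
* `noFac_of_tori` : no factorisation with a solvable factor.
-/

namespace Cfsg.Agent.H325.G2Small

open Subgroup Cfsg.Agent.Lib.Cores Cfsg Cfsg.Agent.H56.Exc

/-! ### a Hall subgroup -/

theorem index_centralizer_le {G : Type*} [Group G] [Finite G] (N : Subgroup G) [N.Normal] {a : G} (ha : a ∈ N) :
    (centralizer ({a} : Set G)).index ≤ Nat.card N := by
  have hf : ∀ x y : G, x⁻¹ * y ∈ centralizer ({a} : Set G) ↔ x * a * x⁻¹ = y * a * y⁻¹ := by
    intro x y
    rw [mem_centralizer_singleton_iff]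
    constructor
    · intro h
      have h1 : y * a * y⁻¹ = x * ((x⁻¹ * y) * a) * y⁻¹ := by group
      rw [h1, h]; group
    · intro h
      have h1 : x⁻¹ * y * a = x⁻¹ * (y * a * y⁻¹) * y := by group
      rw [h1, ← h]; group
  let f : G ⧸ centralizer ({a} : Set G) → N := Quotient.lift
    (fun x => (⟨x * a * x⁻¹, (inferInstance : N.Normal).conj_mem a ha x⟩ : N))
    (fun x y hxy => Subtype.ext ((hf x y).1 (QuotientGroup.leftRel_apply.1 hxy)))
  refine Nat.card_le_card_of_injective f ?_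
  intro x y
  induction x using QuotientGroup.induction_on
  induction y using QuotientGroup.induction_on
  intro h
  exact QuotientGroup.eq.2 ((hf _ _).2 (congrArg Subtype.val h))

/-- a group of order dividing `25` has two generators -/
theorem exists_gens {G : Type*} [Group G] [Finite G] (N : Subgroup G) (hN : Nat.card N ∣ 25) :
    ∃ a ∈ N, ∃ b ∈ N, centralizer ({a} : Set G) ⊓ centralizer ({b} : Set G) ≤ centralizer (N : Set G) := by
  have key : ∀ a ∈ N, ∀ b ∈ N, N ≤ closure {a, b} →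
      centralizer ({a} : Set G) ⊓ centralizer ({b} : Set G) ≤ centralizer (N : Set G) := by
    intro a ha b hb h x hx
    rw [mem_inf, mem_centralizer_singleton_iff, mem_centralizer_singleton_iff] at hx
    rw [mem_centralizer_iff]
    intro y hy
    have h1 : closure {a, b} ≤ centralizer ({x} : Set G) := by
      rw [closure_le]
      rintro z (rfl | hz)
      · exact mem_centralizer_singleton_iff.2 hx.1.symm
      · rw [Set.mem_singleton_iff] at hz
        subst hz
        exact mem_centralizer_singleton_iff.2 hx.2.symm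
    have h2 := mem_centralizer_singleton_iff.1 (h1 (h hy))
    exact h2
  by_cases h1 : N = ⊥
  · exact ⟨1, one_mem _, 1, one_mem _, key 1 (one_mem _) 1 (one_mem _) (by rw [h1]; exact bot_le)⟩
  obtain ⟨a, ha, ha1⟩ := N.bot_or_exists_ne_one.resolve_left h1
  by_cases h2 : N ≤ zpowers a
  · exact ⟨a, ha, a, ha, key a ha a ha (h2.trans (by rw [zpowers_eq_closure]; exact closure_mono (by simp)))⟩
  obtain ⟨b, hb, hba⟩ := SetLike.not_le_iff_exists.1 h2
  refine ⟨a, ha, b, hb, key a ha b hb ?_⟩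
  have hle : closure {a, b} ≤ N := by
    rw [closure_le]
    rintro z (rfl | hz)
    · exact ha
    · rw [Set.mem_singleton_iff] at hz
      subst hz
      exact hb
  have hza : zpowers a ≤ closure {a, b} := by
    rw [zpowers_eq_closure]; exact closure_mono (by simp)
  have hbm : b ∈ closure {a, b} := subset_closure (by simp)
  have d1 := Subgroup.card_dvd_of_le hza
  have d2 := Subgroup.card_dvd_of_le hle
  have hne : Nat.card (zpowers a) ≠ Nat.card (closure {a, b}) := by
    intro h3
    have h4 := Subgroup.eq_of_le_of_card_ge hza h3.ge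
    rw [← h4] at hbm
    exact hba hbm
  have hna : Nat.card (zpowers a) ≠ 1 := by
    intro h3
    rw [Nat.card_zpowers, orderOf_eq_one_iff] at h3
    exact ha1 h3
  have hN' : Nat.card N ≤ Nat.card (closure {a, b}) := by
    have e25 : (25 : ℕ) = 5 ^ 2 := by norm_num
    rw [e25] at hN
    obtain ⟨k, hk, hk'⟩ := (Nat.dvd_prime_pow (by norm_num : Nat.Prime 5)).1 hN
    rw [hk'] at d2
    obtain ⟨l, hl, hl'⟩ := (Nat.dvd_prime_pow (by norm_num : Nat.Prime 5)).1 d2
    rw [hl'] at d1
    obtain ⟨j, hj, hj'⟩ := (Nat.dvd_prime_pow (by norm_num : Nat.Prime 5)).1 d1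
    rw [hj', hl'] at hne
    rw [hj'] at hna
    have hj0 : j ≠ 0 := by rintro rfl; exact hna (pow_zero 5)
    have hjl : j ≠ l := fun h => hne (by rw [h])
    rw [hk', hl']
    exact Nat.pow_le_pow_right (by norm_num) (by omega)
  exact (Subgroup.eq_of_le_of_card_ge hle hN').ge

/-- a solvable `{2, 5}`-group -/
theorem exists_two {K : Type*} [Group K] [Finite K] [Group.IsSolvable K] {a : ℕ} (ha : 10 ≤ a)
    (hK : Nat.card K = 2 ^ a * 25) : ∃ V : Subgroup K, V.Normal ∧ V ≠ ⊥ ∧ IsPGroup 2 V := by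
  by_contra hcon
  push Not at hcon
  have h2 : pCore 2 K = ⊥ := by
    by_contra h
    exact hcon _ (pCore_normal 2) h (pCore_isPGroup 2)
  have hi : ∀ p : Nat.Primes, pCore (p : ℕ) K ≤ pCore 5 K := by
    intro p
    have hp : Fact (p : ℕ).Prime := ⟨p.2⟩
    by_cases h5 : (p : ℕ) = 5
    · rw [h5]
    · by_cases h2' : (p : ℕ) = 2
      · rw [h2', h2]; exact bot_le
      · have h3 : pCore (p : ℕ) K = ⊥ := by
          obtain ⟨k, hk⟩ := (IsPGroup.iff_card).1 (pCore_isPGroup (G := K) (p : ℕ))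
          rw [← card_eq_one, hk]
          have h4 := Subgroup.card_subgroup_dvd_card (pCore (p : ℕ) K)
          rw [hk, hK] at h4
          have h6 : ¬ (p : ℕ) ∣ 2 ^ a * 25 := by
            intro h7
            rcases (Nat.Prime.dvd_mul p.2).1 h7 with h8 | h8
            · exact h2' ((Nat.prime_dvd_prime_iff_eq p.2 Nat.prime_two).1 (p.2.dvd_of_dvd_pow h8))
            · exact h5 ((Nat.prime_dvd_prime_iff_eq p.2 (by norm_num)).1
                (p.2.dvd_of_dvd_pow (m := 5) (n := 2) (by norm_num; exact h8)))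
          by_contra hk1
          have hk0 : k ≠ 0 := by rintro rfl; exact hk1 (pow_zero _)
          exact h6 ((dvd_pow_self _ hk0).trans h4)
        rw [h3]; exact bot_le
  have hF : fittingSubgroup K ≤ pCore 5 K := by
    rw [fittingSubgroup_eq_iSup_pCore]
    exact iSup_le hi
  have i5 : Fact (Nat.Prime 5) := ⟨by norm_num⟩
  have hcN : centralizer (pCore 5 K : Set K) ≤ pCore 5 K := by
    have h3 := Cfsg.Agent.S0044.result (G := K)
    have h4 : pCore 5 K = fittingSubgroup K := le_antisymm (pCore_le_fittingSubgroup 5) hF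
    rw [h4]; exact h3
  have hN25 : Nat.card (pCore 5 K) ∣ 25 := by
    obtain ⟨k, hk⟩ := (IsPGroup.iff_card).1 (pCore_isPGroup (G := K) 5)
    have h3 := Subgroup.card_subgroup_dvd_card (pCore 5 K)
    rw [hk, hK] at h3
    rw [hk]
    exact (Nat.Coprime.pow _ _ (by norm_num)).dvd_of_dvd_mul_left h3
  have := pCore_normal (G := K) 5
  obtain ⟨x, hx, y, hy, hxy⟩ := exists_gens (pCore 5 K) hN25
  have h3 := index_centralizer_le (pCore 5 K) hx
  have h4 := index_centralizer_le (pCore 5 K) hy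
  have h5 : (centralizer ({x} : Set K) ⊓ centralizer ({y} : Set K)).index ≤ 25 * 25 := by
    refine Subgroup.index_inf_le.trans (Nat.mul_le_mul (h3.trans ?_) (h4.trans ?_)) <;>
      exact Nat.le_of_dvd (by norm_num) hN25
  have h6 : Nat.card ↥(centralizer ({x} : Set K) ⊓ centralizer ({y} : Set K)) ≤ 25 :=
    (Subgroup.card_le_of_le (hxy.trans hcN)).trans (Nat.le_of_dvd (by norm_num) hN25)
  have h7 := Subgroup.card_mul_index (centralizer ({x} : Set K) ⊓ centralizer ({y} : Set K))
  rw [hK] at h7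
  have h8 : 2 ^ 10 ≤ 2 ^ a := Nat.pow_le_pow_right (by norm_num) ha
  have h9 := Nat.mul_le_mul h6 h5
  rw [h7] at h9
  omega

/-! ### factorisations -/

theorem index_subgroupOf {G : Type*} [Group G] (A B : Subgroup G) (h : ∀ g : G, ∃ a ∈ A, ∃ b ∈ B, g = a * b) :
    (B.subgroupOf A).index = B.index := by
  have ht : MulAction.IsPretransitive A (G ⧸ B) := by
    constructor
    have key : ∀ y : G ⧸ B, ∃ a : A, a • ((1 : G) : G ⧸ B) = y := by
      intro y
      induction y using QuotientGroup.induction_on with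
      | H g =>
        obtain ⟨a, ha, b, hb, rfl⟩ := h g
        refine ⟨⟨a, ha⟩, ?_⟩
        show ((a * 1 : G) : G ⧸ B) = ((a * b : G) : G ⧸ B)
        rw [mul_one, QuotientGroup.eq]
        simpa using hb
    intro x y
    obtain ⟨a, ha⟩ := key x
    obtain ⟨b, hb⟩ := key y
    exact ⟨b * a⁻¹, by rw [mul_smul, ← ha, inv_smul_smul, hb]⟩
  have h1 := MulAction.index_stabilizer_of_transitive A (x := ((1 : G) : G ⧸ B))
  have h2 : MulAction.stabilizer A ((1 : G) : G ⧸ B) = B.subgroupOf A := by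
    ext a
    rw [MulAction.mem_stabilizer_iff, Subgroup.mem_subgroupOf]
    show (((a : G) * 1 : G) : G ⧸ B) = ((1 : G) : G ⧸ B) ↔ _
    rw [mul_one, eq_comm, QuotientGroup.eq, inv_one, one_mul]
  rw [h2] at h1
  exact h1

/-- **A factorisation with an even order intersection.** -/
theorem two_dvd_of_conj {G : Type*} [Group G] [Finite G] (A B : Subgroup G)
    (h : ∀ g : G, ∃ a ∈ A, ∃ b ∈ B, g = a * b) (hconj : ∀ s t : G, orderOf s = 2 → orderOf t = 2 → IsConj s t)
    (hA : 2 ∣ Nat.card A) (hB : 2 ∣ Nat.card B) : 2 * B.index ∣ Nat.card A := by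
  have i2 : Fact (Nat.Prime 2) := ⟨Nat.prime_two⟩
  obtain ⟨s, hs⟩ := exists_prime_orderOf_dvd_card' 2 hA
  obtain ⟨t, ht⟩ := exists_prime_orderOf_dvd_card' 2 hB
  obtain ⟨c, hc⟩ := isConj_iff.1 (hconj (t : G) (s : G) (by rw [Subgroup.orderOf_coe, ht])
    (by rw [Subgroup.orderOf_coe, hs]))
  obtain ⟨a, ha, b, hb, rfl⟩ := h c
  have h1 : a⁻¹ * s * a = b * t * b⁻¹ := by rw [← hc]; group
  have hm : a⁻¹ * (s : G) * a ∈ A := mul_mem (mul_mem (inv_mem ha) s.2) ha
  have hm2 : a⁻¹ * (s : G) * a ∈ B := by rw [h1]; exact mul_mem (mul_mem hb t.2) (inv_mem hb)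
  have ho : orderOf (a⁻¹ * (s : G) * a) = 2 := by
    have h3 : a⁻¹ * (s : G) * a = MulAut.conj a⁻¹ (s : G) := by simp
    rw [h3, MulEquiv.orderOf_eq, Subgroup.orderOf_coe, hs]
  have h4 : 2 ∣ Nat.card (B.subgroupOf A) := by
    have h5 := orderOf_dvd_natCard (⟨⟨_, hm⟩, Subgroup.mem_subgroupOf.2 hm2⟩ : B.subgroupOf A)
    rwa [Subgroup.orderOf_mk, Subgroup.orderOf_mk, ho] at h5
  have h6 := Subgroup.card_mul_index (B.subgroupOf A)
  rw [index_subgroupOf A B h] at h6
  rw [← h6]
  exact Nat.mul_dvd_mul_right h4 _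

universe u

variable {G : Type u} [Group G] [Finite G] {p : ℕ} {ι : Type*} {B : ι → ℕ → Prop} {m e : ι → ℕ}

/-- **No factorisation with a solvable factor**, with a special treatment of the full case. -/
theorem noFac_of_tori (h : Tori G p B m e) (hp : p.Prime) (hbt : ∀ i r, B i r → BT G p r)
    (hcase : ∀ i₀ (M : Subgroup G), M ≠ ⊤ → (∀ i r, i ≠ i₀ → B i r → ¬ r ∣ M.index) →
      (∀ k, p ^ k ∣ M.index → p ^ k ∣ e i₀) → False)
    (hK : ∀ H M : Subgroup G, Group.IsSolvable H → M ≠ ⊤ → (∀ g : G, ∃ a ∈ H, ∃ b ∈ M, g = a * b) →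
      (∀ i r, B i r → ¬ r ∣ M.index) →
      (∀ i r k, B i r → r ∣ Nat.card H → p ^ k ∣ Nat.card H → p ^ k ∣ e i) → False) : NoFac G := by
  intro H M hH hM
  by_contra hcon
  push Not at hcon
  have hHM := index_dvd_of_factor H M hcon
  rcases h.cases hp H M hHM with h1 | ⟨i₀, h1, -, h2⟩
  · refine hK H M hH hM hcon h1 fun i r k hr hrH hk => ?_
    exact ((h.big i r hr).subgroup H).pow_dvd_of_solvable hrH hp (h.ndvd i) ((hbt i r hr).subgroup H) k hk
  · exact hcase i₀ M hM (fun i r hi hr => h1 i r hi hr) (h2 fun r hr => hbt i₀ r hr)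

end Cfsg.Agent.H325.G2Small
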