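import Cfsg.Agent.H325.IsoExc
import Cfsg.Agent.H56.Exc.BigRows

/-!
# Isolated primes from free actions on the unipotent radicals of the maximal parabolic subgroups

`piso_of_free`: the prime `w` is isolated if the centralisers of the elements of order `w` are `p'`-groups and `w` does
not divide `|V_J| - 1` for the maximal `J`. Results: `E₆(q)`: `d = 12`; `E₇(q)`: `d = 18`; `E₈(q)`: `d = 15, 30`.
-/

set_option autoImplicit false
set_option linter.unusedSectionVars false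

namespace Cfsg.Agent.H325.IsoFree

open Cfsg
open CoxeterSystem Cfsg.Agent.ChevalleyStructure.CoxeterGeom Cfsg.Agent.Tits.Roots Cfsg.Agent.Tits.Core
  Cfsg.Agent.Tits.RootComb Cfsg.Agent.Nodes.Comb Cfsg.Agent.Nodes.Reps Cfsg.Agent.Nodes.BNOf
  Cfsg.Agent.Nodes.StabComb Cfsg.Agent.Nodes.Bruhat Cfsg.Agent.Nodes.LeviDec Cfsg.Agent.Nodes.NormalForm
  Cfsg.Agent.ParSys Cfsg.Agent.ParSys.RootCount Cfsg.Agent.Tits.Exchange
  Cfsg.Agent.Omega.EH3Close.CountU
open Cfsg.Agent.H325.Loc Cfsg.Agent.KFacts.RgdFilt Cfsg.Agent.H325.IsoRgd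
open Subgroup (normalizer)

universe u

/-- an element of prime order `w` normalizing a `p`-group `V` and centralizing no element of order `p` -/
theorem dvd_card_sub_one {Y : Type*} [Group Y] [Finite Y] {p w : ℕ} [hp : Fact p.Prime] (hw : w.Prime) {V : Subgroup Y}
    (hV : IsPGroup p V) {x : Y} (hx : orderOf x = w) (hxV : x ∈ normalizer (V : Set Y))
    (hc : ¬ p ∣ Nat.card (Subgroup.centralizer ({x} : Set Y))) : w ∣ Nat.card V - 1 := by
  classical
  have : Fact w.Prime := ⟨hw⟩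
  have hmem : ∀ v : V, x * v * x⁻¹ ∈ V := fun v => (Subgroup.mem_normalizer_iff.1 hxV _).1 v.2
  let f : Function.End V := fun v => ⟨x * v * x⁻¹, hmem v⟩
  have hfk : ∀ (k : ℕ) (v : V), (((f ^ k) v : V) : Y) = x ^ k * v * (x ^ k)⁻¹ := by
    intro k
    induction k with
    | zero =>
      intro v
      rw [pow_zero, pow_zero]
      show (v : Y) = 1 * v * 1⁻¹
      group
    | succ k ih =>
      intro v
      rw [pow_succ']
      show x * ((f ^ k) v : V) * x⁻¹ = _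
      rw [ih, pow_succ']
      group
  have hf : f ^ w ^ 1 = 1 := by
    funext v
    apply Subtype.ext
    rw [hfk, pow_one, ← hx, pow_orderOf_eq_one]
    show 1 * (v : Y) * 1⁻¹ = v
    group
  have hft : Fintype V := Fintype.ofFinite _
  have h1 := Equiv.Perm.card_fixedPoints_modEq (p := w) (n := 1) hf
  have h2 : Fintype.card (Function.fixedPoints f) = 1 := by
    rw [Fintype.card_eq_one_iff]
    refine ⟨⟨1, Subtype.ext (by show x * ((1 : V) : Y) * x⁻¹ = ((1 : V) : Y); simp)⟩, ?_⟩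
    rintro ⟨v, hv⟩
    apply Subtype.ext
    have h3 : x * v * x⁻¹ = v := congrArg Subtype.val hv
    have h4 : (v : Y) ∈ Subgroup.centralizer ({x} : Set Y) := by
      rw [Subgroup.mem_centralizer_singleton_iff]
      exact (mul_inv_eq_iff_eq_mul.1 h3).symm
    by_contra hv1
    obtain ⟨k, hk⟩ := (IsPGroup.iff_orderOf.1 hV) v
    have h5 : k ≠ 0 := by
      rintro rfl
      rw [pow_zero, orderOf_eq_one_iff] at hk
      exact hv1 hk
    apply hc
    have h6 := orderOf_dvd_natCard (⟨v, h4⟩ : Subgroup.centralizer ({x} : Set Y))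
    rw [Subgroup.orderOf_mk, Subgroup.orderOf_coe, hk] at h6
    exact (dvd_pow_self p h5).trans h6
  rw [h2] at h1
  rw [Nat.card_eq_fintype_card]
  exact (Nat.modEq_iff_dvd' Fintype.card_pos).1 h1.symm

section Main

variable {I W Y : Type*} [Fintype I] [DecidableEq I] [Group W] [Group Y] {M : CoxeterMatrix I}
  {cs : CoxeterSystem M W} {A : I → I → ℤ} {h : IsCartan M A} {p : ℕ} {T : Subgroup Y} {n : I → Y}
  {X : (I → ℤ) → Subgroup Y}

theorem PJ_mono {J J' : Set I} (hJ : J ⊆ J') : PJ cs h T X J ≤ PJ cs h T X J' :=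
  sup_le ((LJ_mono hJ).trans LJ_le_PJ) ((VJ_le_B J).trans B_le_PJ)

/-- **Isolated primes from free actions.** -/
theorem piso_of_free [Finite W] [Finite Y] [Fact p.Prime] [IsSimpleGroup Y] (hc : ∃ a b : Y, a * b ≠ b * a)
    (hF : HasFilt p Y) (R : RGD cs h p T n X) (hG : Nodes.RGDLib.G1 cs h X = ⊤)
    {w : ℕ} (hw : w.Prime)
    (hcent : ∀ x : Y, orderOf x = w → ¬ p ∣ Nat.card (Subgroup.centralizer ({x} : Set Y)))
    (hV : ∀ i : I, ¬ w ∣ Nat.card (VJ cs h X ({i}ᶜ : Set I)) - 1) : PIso p w Y := by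
  intro Q hQ hQ1 hd
  obtain ⟨V, hVp, hQV, hle, S, hS⟩ := H772.Pearl.exists_par_sylow hF hc hQ hQ1
  have hP : normalizer (V : Set Y) ≠ ⊤ := by
    intro h0
    have hVn : V.Normal := Subgroup.normalizer_eq_top_iff.1 h0
    rcases hVn.eq_bot_or_eq_top with h1 | h1
    · rw [h1, le_bot_iff] at hQV
      exact hQ1 hQV
    · rw [h1] at hVp
      have hY : IsPGroup p Y := hVp.of_equiv Subgroup.topEquiv
      have hnt : Nontrivial Y := inferInstance
      have h2 : Nontrivial (Subgroup.center Y) := hY.center_nontrivial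
      rcases (inferInstance : (Subgroup.center Y).Normal).eq_bot_or_eq_top with h3 | h3
      · rw [h3] at h2
        exact not_nontrivial _ h2
      · obtain ⟨a, b, hab⟩ := hc
        apply hab
        have : a ∈ Subgroup.center Y := by rw [h3]; trivial
        exact ((Subgroup.mem_center_iff.1 this) b).symm
  have hidx : ¬ p ∣ (normalizer (V : Set Y)).index := by
    intro h1
    exact S.not_dvd_index (h1.trans (Subgroup.index_dvd_of_le hS))
  obtain ⟨g, K, hK, hle'⟩ := exists_le_PJ R hG _ hP hidx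
  obtain ⟨i, hi⟩ : ∃ i, i ∉ K := by
    by_contra hcon
    push Not at hcon
    exact hK (Set.eq_univ_of_forall hcon)
  have : Fact w.Prime := ⟨hw⟩
  obtain ⟨x, hx⟩ := exists_prime_orderOf_dvd_card' w hd
  have hxo : orderOf (x : Y) = w := by rw [Subgroup.orderOf_coe, hx]
  have h1 : g * x * g⁻¹ ∈ PJ cs h T X ({i}ᶜ : Set I) := by
    refine PJ_mono (fun j hj => ?_) (hle' ?_)
    · intro h2
      rw [Set.mem_singleton_iff] at h2
      exact hi (h2 ▸ hj)
    · exact ⟨x, hle x.2, rfl⟩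
  have h2 : orderOf (g * (x : Y) * g⁻¹) = w := by
    have := orderOf_injective (MulAut.conj g).toMonoidHom (MulAut.conj g).injective (x : Y)
    rw [← hxo, ← this]
    rfl
  exact hV i (dvd_card_sub_one hw (R.isPGroup_Upos.to_le (VJ_le_U _)) h2 (PJ_le_normalizer_VJ R _ h1) (hcent _ h2))

end Main

section Gen

open Cfsg.Agent.Nodes Cfsg.Agent.Nodes.BNOf Cfsg.Agent.Nodes.RGDLib Cfsg.Agent.Nodes.RGDChev
open Cfsg.Agent.ChevalleyStructure Cfsg.Agent.ChevalleyStructure.Elts Cfsg.Agent.ChevalleyStructure.NPerm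
  Cfsg.Agent.ChevalleyStructure.CoxeterGeomTypes
open Cfsg.Agent.Omega.EH3.Kf Cfsg.Agent.Omega.EH3.Kf.Lev
open Cfsg.Agent.ParSys.RootExc
open Cfsg.Agent.H325.IsoExc (nc_of)
open Cfsg.Agent.H138.SqChev (card_X)
open Cfsg.Lie

variable {D : ChevalleyDatum} {l : ℕ} {M : CoxeterMatrix (Fin l)} (hp : IsType D l M) (K : Type u)
  [Field K]

include hp

theorem piso_chev_free [Fintype K] {p : ℕ} [Fact p.Prime] [CharP K p]
    (hs : IsSimpleGroup ↥(D.group K) ∧ ¬ IsMulCommutative ↥(D.group K)) (hF : HasFilt p ↥(D.group K))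
    {A₀ : Fin l → Fin l → ℤ} (hA : cartanOf D l = A₀) {L : List (Fin l → ℤ)}
    (hR : PosRoots A₀ L.toFinset) (hN : L.Nodup) {d : ℕ}
    (hchk : ∀ i : Fin l, ¬ d ∣ (L.filter fun v => decide (0 < v i)).length)
    {w : ℕ} (hu : H436.Prim (Fintype.card K) d w)
    (hcent : ∀ x : ↥(D.group K), orderOf x = w → ¬ p ∣ Nat.card (Subgroup.centralizer ({x} : Set ↥(D.group K)))) :
    PIso p w ↥(D.group K) := by
  have hW : Finite M.Group := finite_W hp M.toCoxeterSystem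
  have hs1 := hs.1
  subst hA
  refine piso_of_free (nc_of hs.2) hF (rgd (K := K) hp M.toCoxeterSystem p) (G1_eq_top hp _) hu.prime hcent
    fun i => ?_
  have hcard := card_VJ_single (rgd (K := K) hp M.toCoxeterSystem p) hR (wt := fun _ => Fintype.card K)
    (fun _ _ _ _ => rfl) (fun i => card_X hp K i) i
  rw [hcard, Finset.prod_const]
  have e1 : (L.toFinset.filter fun v => 0 < v i) = (L.filter fun v => decide (0 < v i)).toFinset := by
    ext v
    rw [Finset.mem_filter, List.mem_toFinset, List.mem_toFinset, List.mem_filter, decide_eq_true_iff]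
  rw [e1, List.toFinset_card_of_nodup (hN.filter _), hu.dvd_iff]
  exact hchk i

end Gen

section Rows

open Cfsg.Agent.ChevalleyStructure Cfsg.Agent.ChevalleyStructure.Elts Cfsg.Agent.ChevalleyStructure.NPerm
  Cfsg.Agent.ChevalleyStructure.CoxeterGeomTypes
open Cfsg.Agent.Nodes Cfsg.Agent.Nodes.BNOf Cfsg.Agent.Nodes.RGDLib Cfsg.Agent.Nodes.RGDChev
open Cfsg.Lie Cfsg.Agent.ParSys.RootExc Cfsg.Agent.H56.Exc

variable {F : Type} [Field F] [Fintype F] {p : ℕ} [Fact p.Prime] [CharP F p] {w : ℕ}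

theorem dvd_card : p ∣ Fintype.card F := by
  obtain ⟨k, hk⟩ := FiniteField.card F p
  rw [hk.2]
  exact dvd_pow_self p k.ne_zero

omit [CharP F p] in
theorem not_dvd_of {P t : ℤ} {q : ℕ} (hpq : p ∣ q) (hP : P = 1 + (q : ℤ) * t) {m k : ℕ} (hm : (m : ℤ) = P)
    (hk : k ∣ m) : ¬ p ∣ k := by
  intro h
  have h1 : (p : ℤ) ∣ 1 + (q : ℤ) * t := by
    rw [← hP, ← hm]
    exact_mod_cast h.trans hk
  have h2 : (p : ℤ) ∣ (q : ℤ) * t := (Int.natCast_dvd_natCast.2 hpq).mul_right t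
  have h3 : (p : ℤ) ∣ 1 := (dvd_add_left h2).1 h1
  exact (Fact.out : p.Prime).one_lt.ne' (Int.natAbs_dvd_natAbs.2 h3 |> Nat.dvd_one.1)

theorem piso_E6_12 (hu : H436.Prim (Fintype.card F) 12 w) : PIso p w ↥(chevE6.group F) := by
  have hp : IsType chevE6 6 CoxeterMatrix.E₆ := by simp [IsType, typeList]
  have h4 : ∀ i j, CoxeterMatrix.E₆ i j ≠ 4 := fun i j => (H396.CommTab.lab_E6 i j).1
  have h6 : ∀ i j, CoxeterMatrix.E₆ i j ≠ 6 := fun i j => (H396.CommTab.lab_E6 i j).2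
  refine piso_chev_free (p := p) hp F (Cfsg.Agent.S1054.result chevE6 (by simp))
    (Cfsg.Agent.KFacts.RgdFiltChev.hasFilt_E6 F p)
    (Omega.EH3Close.Numb.cartan_eq hp.isCartan ParSys.RootExc.isCartan_E6 h4 h6)
    (L := LE6) posRoots_E6 (by decide +kernel) (d := 12) (by decide +kernel) hu fun x hx => ?_
  set q := Fintype.card F with hq
  have hnn : (0 : ℤ) ≤ (1 - (q : ℤ) ^ 2 + (q : ℤ) ^ 4) * (1 + (q : ℤ) + (q : ℤ) ^ 2) :=
    mul_nonneg (by nlinarith [sq_nonneg ((q : ℤ) ^ 2 - 1), sq_nonneg (q : ℤ)]) (by positivity)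
  have hm := Int.toNat_of_nonneg hnn
  exact not_dvd_of (dvd_card (F := F)) (t := 1 - (q : ℤ) ^ 2 + (q : ℤ) ^ 4 + (q : ℤ) ^ 5) (by ring) hm
    ((big_E6_12 hq.symm hm hu).card x hx)

theorem piso_E7_18 (hu : H436.Prim (Fintype.card F) 18 w) : PIso p w ↥(chevE7.group F) := by
  have hp : IsType chevE7 7 CoxeterMatrix.E₇ := by simp [IsType, typeList]
  have h4 : ∀ i j, CoxeterMatrix.E₇ i j ≠ 4 := fun i j => (H396.CommTab.lab_E7 i j).1
  have h6 : ∀ i j, CoxeterMatrix.E₇ i j ≠ 6 := fun i j => (H396.CommTab.lab_E7 i j).2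
  refine piso_chev_free (p := p) hp F (Cfsg.Agent.S1054.result chevE7 (by simp))
    (Cfsg.Agent.KFacts.RgdFiltChev.hasFilt_E7 F p)
    (Omega.EH3Close.Numb.cartan_eq hp.isCartan ParSys.RootExc.isCartan_E7 h4 h6)
    (L := LE7) posRoots_E7 (by decide +kernel) (d := 18) (by decide +kernel) hu fun x hx => ?_
  set q := Fintype.card F with hq
  have hnn : (0 : ℤ) ≤ (1 - (q : ℤ) ^ 3 + (q : ℤ) ^ 6) * ((q : ℤ) + 1) :=
    mul_nonneg (by nlinarith [sq_nonneg ((q : ℤ) ^ 3 - 1), pow_nonneg (Int.natCast_nonneg q) 3]) (by positivity)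
  have hm := Int.toNat_of_nonneg hnn
  exact not_dvd_of (dvd_card (F := F)) (t := 1 - (q : ℤ) ^ 2 - (q : ℤ) ^ 3 + (q : ℤ) ^ 5 + (q : ℤ) ^ 6) (by ring) hm
    ((big_E7_18 hq.symm hm hu).card x hx)

theorem piso_E8_15 (hu : H436.Prim (Fintype.card F) 15 w) : PIso p w ↥(chevE8.group F) := by
  have hp : IsType chevE8 8 CoxeterMatrix.E₈ := by simp [IsType, typeList]
  have h4 : ∀ i j, CoxeterMatrix.E₈ i j ≠ 4 := fun i j => (H396.CommTab.lab_E8 i j).1
  have h6 : ∀ i j, CoxeterMatrix.E₈ i j ≠ 6 := fun i j => (H396.CommTab.lab_E8 i j).2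
  refine piso_chev_free (p := p) hp F (Cfsg.Agent.S1054.result chevE8 (by simp))
    (Cfsg.Agent.KFacts.RgdFiltChev.hasFilt_E8 F p)
    (Omega.EH3Close.Numb.cartan_eq hp.isCartan ParSys.RootExc.isCartan_E8 h4 h6)
    (L := LE8) posRoots_E8 (by decide +kernel) (d := 15) (by decide +kernel) hu fun x hx => ?_
  set q := Fintype.card F with hq
  have hq1 : 1 ≤ q := Fintype.card_pos
  have e1 : (q : ℤ) ^ 7 ≤ (q : ℤ) ^ 8 := by exact_mod_cast Nat.pow_le_pow_right hq1 (by norm_num)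
  have e2 : (q : ℤ) ^ 4 ≤ (q : ℤ) ^ 5 := by exact_mod_cast Nat.pow_le_pow_right hq1 (by norm_num)
  have e3 : (q : ℤ) ≤ (q : ℤ) ^ 3 := by exact_mod_cast Nat.le_self_pow (by norm_num) q
  have hnn : (0 : ℤ) ≤ 1 - (q : ℤ) + (q : ℤ) ^ 3 - (q : ℤ) ^ 4 + (q : ℤ) ^ 5 - (q : ℤ) ^ 7 + (q : ℤ) ^ 8 := by
    linarith
  have hm := Int.toNat_of_nonneg hnn
  exact not_dvd_of (dvd_card (F := F))
    (t := -1 + (q : ℤ) ^ 2 - (q : ℤ) ^ 3 + (q : ℤ) ^ 4 - (q : ℤ) ^ 6 + (q : ℤ) ^ 7) (by ring) hm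
    ((big_E8_15 hq.symm hm hu).card x hx)

theorem piso_E8_30 (hu : H436.Prim (Fintype.card F) 30 w) : PIso p w ↥(chevE8.group F) := by
  have hp : IsType chevE8 8 CoxeterMatrix.E₈ := by simp [IsType, typeList]
  have h4 : ∀ i j, CoxeterMatrix.E₈ i j ≠ 4 := fun i j => (H396.CommTab.lab_E8 i j).1
  have h6 : ∀ i j, CoxeterMatrix.E₈ i j ≠ 6 := fun i j => (H396.CommTab.lab_E8 i j).2
  refine piso_chev_free (p := p) hp F (Cfsg.Agent.S1054.result chevE8 (by simp))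
    (Cfsg.Agent.KFacts.RgdFiltChev.hasFilt_E8 F p)
    (Omega.EH3Close.Numb.cartan_eq hp.isCartan ParSys.RootExc.isCartan_E8 h4 h6)
    (L := LE8) posRoots_E8 (by decide +kernel) (d := 30) (by decide +kernel) hu fun x hx => ?_
  set q := Fintype.card F with hq
  have hq2 : 2 ≤ q := Fintype.one_lt_card (α := F)
  have hq1 : 1 ≤ q := by omega
  have e1 : 2 * (q : ℤ) ^ 5 ≤ (q : ℤ) ^ 8 := by
    have : 2 * q ^ 5 ≤ q ^ 8 := by
      calc 2 * q ^ 5 ≤ q ^ 3 * q ^ 5 := Nat.mul_le_mul_right _ (hq2.trans (Nat.le_self_pow (by norm_num) q))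
        _ = q ^ 8 := by ring
    exact_mod_cast this
  have e2 : (q : ℤ) ^ 4 ≤ (q : ℤ) ^ 7 := by exact_mod_cast Nat.pow_le_pow_right hq1 (by norm_num)
  have e3 : (q : ℤ) ^ 3 ≤ (q : ℤ) ^ 5 := by exact_mod_cast Nat.pow_le_pow_right hq1 (by norm_num)
  have hnn : (0 : ℤ) ≤ 1 + (q : ℤ) - (q : ℤ) ^ 3 - (q : ℤ) ^ 4 - (q : ℤ) ^ 5 + (q : ℤ) ^ 7 + (q : ℤ) ^ 8 := by
    linarith [Int.natCast_nonneg q]
  have hm := Int.toNat_of_nonneg hnn
  exact not_dvd_of (dvd_card (F := F))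
    (t := 1 - (q : ℤ) ^ 2 - (q : ℤ) ^ 3 - (q : ℤ) ^ 4 + (q : ℤ) ^ 6 + (q : ℤ) ^ 7) (by ring) hm
    ((big_E8_30 hq.symm hm hu).card x hx)

end Rows

end Cfsg.Agent.H325.IsoFree
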