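import Mathlib
import Cfsg.Agent.H325.G2Hall
import Cfsg.Agent.H56.Exc.FacRows
import Cfsg.Agent.H396.ThreeOnTwo
import Cfsg.Agent.H396.CommTab2
import Cfsg.Agent.OrdDiv.Table
import Cfsg.Agent.S4278
import Cfsg.Agent.S1059
import Cfsg.Agent.H396.Crit
import Cfsg.Agent.H138.SqChev2
import Cfsg.Agent.H325.IsoFree

set_option autoImplicit false
set_option linter.unusedSectionVars false

/-!
# `G₂(3)`, `G₂(4)`: no factorisation with a solvable factor (helper325)

* `card_P1` : the order of a minimal parabolic subgroup; `card_B_two` : the order of `B` in rank two;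
* `card_local_dvd` : the orders of the `p`-local subgroups of `G₂(q)`;
* `noFac_G2_three`, `noFac_G2_four`.
-/

namespace Cfsg.Agent.H325.G2Small

open CoxeterSystem Cfsg.Agent.ChevalleyStructure.CoxeterGeom Cfsg.Agent.Tits.Roots Cfsg.Agent.Tits.Core
  Cfsg.Agent.Tits.RootComb Cfsg.Agent.Tits.Exchange Cfsg.Agent.Nodes.Reps Cfsg.Agent.Nodes.BNOf
  Cfsg.Agent.Nodes.StabComb Cfsg.Agent.Nodes.Bruhat Cfsg.Agent.Nodes.OppDec Cfsg.Agent.Nodes.LeviDec
  Cfsg.Agent.Omega.EH3.Kf.Lev
open Cfsg.Agent.H396.Crit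

section

variable {I W Y : Type*} [Fintype I] [DecidableEq I] [Group W] [Group Y] {M : CoxeterMatrix I}
  {cs : CoxeterSystem M W} {A : I → I → ℤ} {h : IsCartan M A} {p : ℕ} {T : Subgroup Y} {n : I → Y}
  {X : (I → ℤ) → Subgroup Y}

variable (R : RGD cs h p T n X)
include R

theorem PJ_empty [Finite W] : PJ cs h T X (∅ : Set I) = RGD.B cs h T X := by
  refine le_antisymm (fun g hg => ?_) B_le_PJ
  obtain ⟨w, hw, cg⟩ := (mem_PJ_iff_cell R).1 hg
  have h2 : w = 1 := by
    unfold WJ at hw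
    rw [Set.image_empty, Subgroup.closure_empty, Subgroup.mem_bot] at hw
    exact hw
  rw [h2] at cg
  exact cg.mem_of_one

/-- the minimal parabolic subgroups -/
theorem card_P1 [Finite W] [Finite Y] (i : I) : Nat.card (PJ cs h T X ({i} : Set I)) =
    (1 + Nat.card (RGD.Sup X (PosJ cs h ({i} : Set I)))) * Nat.card (RGD.B cs h T X) := by
  classical
  have : Fintype Y := Fintype.ofFinite Y
  have h1 := alternating R ({i} : Finset I)
  have hpw : ({i} : Finset I).powerset = {∅, {i}} := by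
    ext K
    simp only [Finset.mem_powerset, Finset.subset_singleton_iff, Finset.mem_insert, Finset.mem_singleton]
  rw [hpw, Finset.sum_pair (by simp [Finset.ext_iff])] at h1
  have g0 := card_gates R (Finset.empty_subset ({i} : Finset I))
  have g1 := card_gates R (Finset.Subset.refl ({i} : Finset I))
  rw [Finset.coe_singleton] at g0 g1 h1
  rw [Finset.coe_empty, PJ_empty R] at g0
  have hB : 0 < Nat.card (RGD.B cs h T X) := Nat.card_pos
  have hP : 0 < Nat.card (PJ cs h T X ({i} : Set I)) := Nat.card_pos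
  have g0' := Nat.eq_of_mul_eq_mul_right hB g0
  rw [mul_comm] at g1
  have g1' := Nat.eq_of_mul_eq_mul_left hP g1
  rw [g0', g1', Finset.card_empty, Finset.card_singleton, pow_zero, one_mul, pow_one] at h1
  push_cast at h1
  zify
  linear_combination h1

end

section Two

variable {W Y : Type*} [Group W] [Group Y] {M : CoxeterMatrix (Fin 2)}
  {cs : CoxeterSystem M W} {A : Fin 2 → Fin 2 → ℤ} {h : IsCartan M A} {p : ℕ} {T : Subgroup Y} {n : Fin 2 → Y}
  {X : (Fin 2 → ℤ) → Subgroup Y}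

variable (R : RGD cs h p T n X)
include R

/-- rank two -/
theorem card_B_two [Finite W] [Finite Y] (hG : Nodes.RGDLib.G1 cs h X = ⊤) {q N : ℕ} (hq : 2 ≤ q)
    (h0 : Nat.card (RGD.Sup X (PosJ cs h ({0} : Set (Fin 2)))) = q)
    (h1 : Nat.card (RGD.Sup X (PosJ cs h ({1} : Set (Fin 2)))) = q)
    (hN : Nat.card (RGD.Sup X (PosJ cs h (Set.univ : Set (Fin 2)))) = q ^ N) :
    Nat.card Y * (q - 1) = (q + 1) * (q ^ N - 1) * Nat.card (RGD.B cs h T X) := by
  classical
  have : Fintype Y := Fintype.ofFinite Y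
  have e1 := alternating R (Finset.univ : Finset (Fin 2))
  have hpw : (Finset.univ : Finset (Fin 2)).powerset = {∅, {0}, {1}, Finset.univ} := by decide
  rw [hpw, Finset.sum_insert (by decide), Finset.sum_insert (by decide), Finset.sum_pair (by decide)] at e1
  have g0 := card_gates R (Finset.empty_subset (Finset.univ : Finset (Fin 2)))
  have g1 := card_gates R (Finset.subset_univ ({0} : Finset (Fin 2)))
  have g2 := card_gates R (Finset.subset_univ ({1} : Finset (Fin 2)))
  have g3 := card_gates R (Finset.Subset.refl (Finset.univ : Finset (Fin 2)))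
  have htop : PJ cs h T X (Set.univ : Set (Fin 2)) = ⊤ := by
    rw [eq_top_iff, ← hG]
    refine le_trans ?_ (le_sup_left (a := LJ cs h T X Set.univ))
    rw [LJ_univ]
    exact le_sup_right
  have p0 := card_P1 R 0
  have p1 := card_P1 R 1
  rw [h0] at p0
  rw [h1] at p1
  simp only [Finset.coe_univ, Finset.coe_empty, Finset.coe_singleton] at g0 g1 g2 g3 e1
  rw [PJ_empty R, htop, Subgroup.card_top] at g0
  rw [p0, htop, Subgroup.card_top] at g1
  rw [p1, htop, Subgroup.card_top] at g2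
  rw [htop, Subgroup.card_top, mul_comm] at g3
  have hB : 0 < Nat.card (RGD.B cs h T X) := Nat.card_pos
  have hY : 0 < Nat.card Y := Nat.card_pos
  have g0' := Nat.eq_of_mul_eq_mul_right hB g0
  have g3' := Nat.eq_of_mul_eq_mul_left hY g3
  rw [← mul_assoc] at g1 g2
  have g1' := Nat.eq_of_mul_eq_mul_right hB g1
  have g2' := Nat.eq_of_mul_eq_mul_right hB g2
  rw [htop] at e1
  simp only [Finset.card_empty, Finset.card_singleton, Finset.card_univ, Fintype.card_fin] at e1
  rw [g0', g3', hN] at e1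
  set a := (Finset.univ.filter fun g : Y => g ∈ (⊤ : Subgroup Y) ∧ {0} ⊆ NS R (Finset.univ : Finset (Fin 2)) g).card
    with ha
  set b := (Finset.univ.filter fun g : Y => g ∈ (⊤ : Subgroup Y) ∧ {1} ⊆ NS R (Finset.univ : Finset (Fin 2)) g).card
    with hb
  have hq1 : 1 ≤ q ^ N := Nat.one_le_pow _ _ (by omega)
  have g1z : (a : ℤ) * (1 + q) = Nat.card Y := by exact_mod_cast g1'
  have g2z : (b : ℤ) * (1 + q) = Nat.card Y := by exact_mod_cast g2'
  zify [hq1, (by omega : 1 ≤ q)]
  push_cast at e1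
  linear_combination (q + 1) * e1 + g1z + g2z

omit R in
theorem exists_subset {J : Set (Fin 2)} (hJ : J ≠ Set.univ) : ∃ i : Fin 2, J ⊆ {i} := by
  obtain ⟨j, hj⟩ := (Set.ne_univ_iff_exists_notMem _).1 hJ
  fin_cases j
  · refine ⟨1, fun x hx => ?_⟩
    fin_cases x
    · exact absurd hx hj
    · rfl
  · refine ⟨0, fun x hx => ?_⟩
    fin_cases x
    · rfl
    · exact absurd hx hj

theorem card_cj_dvd_two [Finite W] [Finite Y] (hG : Nodes.RGDLib.G1 cs h X = ⊤) {q N b : ℕ} (hq : 2 ≤ q)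
    (hN0 : N ≠ 0)
    (h0 : Nat.card (RGD.Sup X (PosJ cs h ({0} : Set (Fin 2)))) = q)
    (h1 : Nat.card (RGD.Sup X (PosJ cs h ({1} : Set (Fin 2)))) = q)
    (hN : Nat.card (RGD.Sup X (PosJ cs h (Set.univ : Set (Fin 2)))) = q ^ N)
    (hb : Nat.card Y * (q - 1) = (q + 1) * (q ^ N - 1) * b) {J : Set (Fin 2)} (hJ : J ≠ Set.univ) (g : Y) :
    Nat.card (cj g (PJ cs h T X J)) ∣ b * (q + 1) := by
  have hB := card_B_two R hG hq h0 h1 hN
  rw [hb] at hB
  have hpos : 0 < (q + 1) * (q ^ N - 1) := by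
    have : q ^ 1 ≤ q ^ N := Nat.pow_le_pow_right (by omega) (Nat.pos_of_ne_zero hN0)
    rw [pow_one] at this
    exact Nat.mul_pos (by omega) (by omega)
  have hB' := Nat.eq_of_mul_eq_mul_left hpos hB
  obtain ⟨i, hi⟩ := exists_subset hJ
  have h2 : Nat.card (cj g (PJ cs h T X J)) = Nat.card (PJ cs h T X J) := Nat.card_congr
    (Subgroup.equivMapOfInjective _ (MulAut.conj g).toMonoidHom (MulAut.conj g).injective).toEquiv.symm
  rw [h2]
  refine (Subgroup.card_dvd_of_le (IsoFree.PJ_mono hi)).trans ?_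
  rw [card_P1 R i, hB']
  fin_cases i
  · refine dvd_of_eq ?_
    rw [mul_comm, add_comm 1]
    exact congrArg (fun t => _ * (t + 1)) h0
  · refine dvd_of_eq ?_
    rw [mul_comm, add_comm 1]
    exact congrArg (fun t => _ * (t + 1)) h1

end Two

/-! ### `G₂(q)` -/

section G2

open Cfsg
open Cfsg.Agent.Nodes Cfsg.Agent.Nodes.RGDLib Cfsg.Agent.Nodes.RGDChev
open Cfsg.Agent.ChevalleyStructure Cfsg.Agent.ChevalleyStructure.Elts Cfsg.Agent.ChevalleyStructure.NPerm
  Cfsg.Agent.ChevalleyStructure.CoxeterGeomTypes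
open Cfsg.Agent.Omega.EH3.Kf Cfsg.Agent.Omega.EH3.Kf.Lev
open Cfsg.Agent.ParSys.RootCount Cfsg.Agent.ParSys.RootExc
open Cfsg.Agent.H138.SqBase Cfsg.Agent.H138.SqChev Cfsg.Agent.H138.SqChev2
open Cfsg.Agent.H325.Loc Cfsg.Agent.H325.IsoRgd Cfsg.Agent.KFacts.RgdFilt Cfsg.Agent.H325.IsoExc
open Cfsg.Lie

universe u

variable {F : Type u} [Field F] [Fintype F] {p : ℕ} [Fact p.Prime] [CharP F p] {w : ℕ}

theorem piso_G2 (hF : 2 < Fintype.card F) {d : ℕ} (hd : d = 3 ∨ d = 6) (hu : H436.Prim (Fintype.card F) d w) :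
    PIso p w ↥(chevG2.group F) := by
  have hp := FamG2.isType
  refine piso_chev (p := p) hp F (Cfsg.Agent.S1055.result (exists_ne_of_card hF))
    (Cfsg.Agent.KFacts.RgdFiltChev.hasFilt_G2 F p)
    (A₀ := BG) (by decide +kernel)
    (L := LG) posRoots_G (by decide +kernel) (d := d) (by omega) rfl (bad := [])
    ?_ (fun J hJ => absurd hJ (by simp)) hu
  rcases hd with rfl | rfl
  · decide +kernel
  · decide +kernel

/-- the orders of the `p`-local subgroups of `G₂(q)` -/
theorem card_local_dvd {q : ℕ} (hq : Fintype.card F = q) {V : Subgroup ↥(chevG2.group F)} (hV : IsPGroup p V)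
    (hV1 : V ≠ ⊥) : Nat.card ↥(Subgroup.normalizer (V : Set ↥(chevG2.group F))) ∣ q ^ 6 * (q - 1) ^ 2 * (q + 1) := by
  have hp := FamG2.isType
  have hW := finite_W hp CoxeterMatrix.G₂.toCoxeterSystem
  have hG1 := G1_eq_top hp (K := F) CoxeterMatrix.G₂.toCoxeterSystem
  have hFil := KFacts.RgdFiltChev.filt (K := F) hp CoxeterMatrix.G₂.toCoxeterSystem p
  have R := rgd (K := F) hp CoxeterMatrix.G₂.toCoxeterSystem p
  have hq2 : 2 ≤ q := hq ▸ Fintype.one_lt_card (α := F)
  have hA : cartanOf chevG2 2 = BG := by decide +kernel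
  have hcard : ∀ (J : Set (Fin 2)) (m : ℕ), (∀ d : DecidablePred fun v : Fin 2 → ℤ => ∀ k, k ∉ J → v k = 0,
      (LG.toFinset.filter (fun v => ∀ k, k ∉ J → v k = 0)).card = m) →
      Nat.card (RGD.Sup (fun x => (XV chevG2 2 F x).subgroupOf (chevG2.group F))
        (PosJ CoxeterMatrix.G₂.toCoxeterSystem hp.isCartan J)) = q ^ m := by
    intro J m hm
    classical
    rw [card_UJ R (Rt := LG.toFinset) (by rw [hA]; exact posRoots_G) (wt := fun _ => q) (fun i v hv hne => rfl)
      (fun i => by rw [← hq]; exact card_X hp F i) J, Finset.prod_const, hm]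
  have h0 := hcard {0} 1 (fun d => by
    rw [show (LG.toFinset.filter (fun v => ∀ k, k ∉ ({0} : Set (Fin 2)) → v k = 0)) =
      LG.toFinset.filter (fun v => v 1 = 0) from Finset.filter_congr fun v _ => by
        simp [Fin.forall_fin_two]]
    decide +kernel)
  have h1 := hcard {1} 1 (fun d => by
    rw [show (LG.toFinset.filter (fun v => ∀ k, k ∉ ({1} : Set (Fin 2)) → v k = 0)) =
      LG.toFinset.filter (fun v => v 0 = 0) from Finset.filter_congr fun v _ => by
        simp [Fin.forall_fin_two]]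
    decide +kernel)
  have h2 := hcard Set.univ 6 (fun d => by
    rw [show (LG.toFinset.filter (fun v => ∀ k, k ∉ (Set.univ : Set (Fin 2)) → v k = 0)) =
      LG.toFinset from Finset.filter_true_of_mem fun v _ k hk => absurd (Set.mem_univ k) hk]
    decide +kernel)
  rw [pow_one] at h0 h1
  obtain ⟨g, J, hJ, -, hle⟩ := KFacts.RgdBorelTits.borel_tits hFil (by rw [eq_top_iff, ← hG1]; exact le_sup_right) hV hV1
  have h3 := (Subgroup.card_dvd_of_le hle).trans (card_cj_dvd_two R hG1 hq2 (by norm_num) h0 h1 h2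
    (b := q ^ 6 * (q - 1) ^ 2) ?_ hJ g)
  · exact h3
  · have h4 := Cfsg.Agent.S1059.result hq
    rw [h4]
    obtain ⟨k, rfl⟩ : ∃ k, q = k + 1 := ⟨q - 1, by omega⟩
    have e2 : (k + 1) ^ 2 - 1 = k * (k + 2) := by
      have : (k + 1) ^ 2 = k * (k + 2) + 1 := by ring
      omega
    rw [e2, Nat.add_sub_cancel]
    ring

/-! ### the two groups -/

section Rows

open Cfsg.Agent.H56.Exc Cfsg.Agent.OrdDiv

theorem prim_three_three {r : ℕ} (h : H436.Prim 3 3 r) : r = 13 := by
  have h1 : r ∣ 3 ^ 3 - 1 := (h.dvd_iff 3).2 dvd_rfl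
  have h2 : r ∣ 2 * 13 := h1
  rcases (Nat.Prime.dvd_mul h.prime).1 h2 with h3 | h3
  · have h4 : r ∣ 3 ^ 1 - 1 := h3
    exact absurd ((h.dvd_iff 1).1 h4) (by norm_num)
  · exact (Nat.prime_dvd_prime_iff_eq h.prime (by norm_num)).1 h3

theorem prim_three_six {r : ℕ} (h : H436.Prim 3 6 r) : r = 7 := by
  have h1 : r ∣ 3 ^ 6 - 1 := (h.dvd_iff 6).2 dvd_rfl
  have h2 : r ∣ (3 ^ 1 - 1) ^ 2 * (3 ^ 3 - 1) * 7 := h1
  rcases (Nat.Prime.dvd_mul h.prime).1 h2 with h3 | h3
  · rcases (Nat.Prime.dvd_mul h.prime).1 h3 with h4 | h4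
    · exact absurd ((h.dvd_iff 1).1 (h.prime.dvd_of_dvd_pow h4)) (by norm_num)
    · exact absurd ((h.dvd_iff 3).1 h4) (by norm_num)
  · exact (Nat.prime_dvd_prime_iff_eq h.prime (by norm_num)).1 h3

theorem prim_four_three {r : ℕ} (h : H436.Prim 4 3 r) : r = 7 := by
  have h1 : r ∣ 4 ^ 3 - 1 := (h.dvd_iff 3).2 dvd_rfl
  have h2 : r ∣ (4 ^ 1 - 1) ^ 2 * 7 := h1
  rcases (Nat.Prime.dvd_mul h.prime).1 h2 with h3 | h3
  · exact absurd ((h.dvd_iff 1).1 (h.prime.dvd_of_dvd_pow h3)) (by norm_num)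
  · exact (Nat.prime_dvd_prime_iff_eq h.prime (by norm_num)).1 h3

theorem prim_four_six {r : ℕ} (h : H436.Prim 4 6 r) : r = 13 := by
  have h1 : r ∣ 4 ^ 6 - 1 := (h.dvd_iff 6).2 dvd_rfl
  have h2 : r ∣ (4 ^ 3 - 1) * 5 * 13 := h1
  rcases (Nat.Prime.dvd_mul h.prime).1 h2 with h3 | h3
  · rcases (Nat.Prime.dvd_mul h.prime).1 h3 with h4 | h4
    · exact absurd ((h.dvd_iff 3).1 h4) (by norm_num)
    · have h5 : r ∣ 4 ^ 2 - 1 := h4.trans (by norm_num)
      exact absurd ((h.dvd_iff 2).1 h5) (by norm_num)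
  · exact (Nat.prime_dvd_prime_iff_eq h.prime (by norm_num)).1 h3

theorem charP_of_card {p f : ℕ} (hp : p.Prime) (hF : Fintype.card F = p ^ f) : CharP F p := by
  obtain ⟨l, hl⟩ := CharP.exists F
  have hlp : l.Prime := CharP.char_is_prime F l
  obtain ⟨n, -, hn⟩ := FiniteField.card F l
  rw [hF] at hn
  have h1 : l ∣ p := by
    refine hlp.dvd_of_dvd_pow (n := f) ?_
    rw [hn]
    exact dvd_pow_self l n.ne_zero
  have h2 := (Nat.prime_dvd_prime_iff_eq hlp hp).1 h1
  subst h2
  exact hl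

/-- a subgroup with a normal `p`-subgroup is `p`-local -/
theorem exists_le_normalizer {G : Type*} [Group G] {p : ℕ} (P : Subgroup G) (V : Subgroup P) (hVn : V.Normal)
    (hV1 : V ≠ ⊥) (hV : IsPGroup p V) :
    ∃ V' : Subgroup G, V' ≠ ⊥ ∧ IsPGroup p V' ∧ P ≤ Subgroup.normalizer (V' : Set G) := by
  refine ⟨V.map P.subtype, ?_, hV.map _, ?_⟩
  · intro h1
    exact hV1 ((Subgroup.map_eq_bot_iff_of_injective _ P.subtype_injective).1 h1)
  · have h1 := Subgroup.le_normalizer_map P.subtype (H := V)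
    rw [Subgroup.normalizer_eq_top_iff.mpr hVn, ← MonoidHom.range_eq_map, Subgroup.range_subtype] at h1
    exact h1

theorem card_three (hF : Fintype.card F = 3) : Nat.card ↥(chevG2.group F) = 4245696 := by
  rw [S1059.result hF]
  norm_num

theorem card_four (hF : Fintype.card F = 4) : Nat.card ↥(chevG2.group F) = 251596800 := by
  rw [S1059.result hF]
  norm_num

/-- the `3`-parts of the simple groups of order dividing `|G₂(3)|` -/
theorem simple_three (hS0 : ∀ (X : Type u) [Group X] [Finite X] [IsSimpleGroup X], IsKnownSimple' X)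
    (S : Type u) [Group S] [Finite S] (hs : IsSimpleGroup S) (hna : ¬ IsMulCommutative S)
    (hd : Nat.card S ∣ 4245696) (h4 : 3 ^ 4 ∣ Nat.card S) : Nat.card S = 4245696 := by
  have hna : ¬ ∀ a b : S, a * b = b * a := fun h => hna ⟨⟨h⟩⟩
  obtain ⟨g, hg, -, hc⟩ := OrdDiv.exists_good table (hS0 S) hna (l := [(2, 6), (3, 6), (7, 1), (13, 1)])
    (N := 4245696) (by decide +kernel) hd
  have hchk : ((OrdDiv.cands [(2, 6), (3, 6), (7, 1), (13, 1)] 4245696).all fun g =>
      !(decide (3 ^ 4 ∣ OrdDiv.ordN g)) || decide (OrdDiv.ordN g = 4245696)) = true := by decide +kernel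
  have h3 := (List.all_eq_true.1 hchk) g hg
  rw [← hc] at h3
  simpa only [h4, decide_true, Bool.not_true, Bool.false_or, decide_eq_true_eq] using h3

theorem coprime_of {n a b N : ℕ} (hn : n ∣ N * (a * b)) (ha : a.Prime) (hb : b.Prime) (hna : ¬ a ∣ n) (hnb : ¬ b ∣ n) :
    n ∣ N := by
  refine Nat.Coprime.dvd_of_dvd_mul_right (Nat.Coprime.mul_right ?_ ?_) hn
  · exact ((Nat.Prime.coprime_iff_not_dvd ha).2 hna).symm
  · exact ((Nat.Prime.coprime_iff_not_dvd hb).2 hnb).symm

/-- **`G₂(3)`.** -/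
theorem noFac_G2_three (hE : CycFixSolv.{u})
    (hS0 : ∀ (X : Type u) [Group X] [Finite X] [IsSimpleGroup X], IsKnownSimple' X) (hF : Fintype.card F = 3)
    (hK : ∀ M : Subgroup ↥(chevG2.group F), M ≠ ⊤ → 7 ∣ Nat.card M → 13 ∣ Nat.card M → Nat.card M = 1092) :
    NoFac ↥(chevG2.group F) := by
  have i3 : Fact (Nat.Prime 3) := ⟨Nat.prime_three⟩
  have hF' : Fintype.card F = 3 ^ 1 := by rw [hF, pow_one]
  have hchar : CharP F 3 := charP_of_card Nat.prime_three hF'
  have hc := card_three hF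
  have hfin : Finite ↥(chevG2.group F) := Nat.finite_of_card_ne_zero (by rw [hc]; norm_num)
  have htori := tori_G2 hF Nat.prime_three (dvd_refl 3) le_rfl
  have hbt : ∀ i r, H436.Prim 3 (rows_G2 i).i r → BT ↥(chevG2.group F) 3 r := by
    intro i r hr
    fin_cases i
    · exact piso_G2 (p := 3) (by rw [hF]; norm_num) (Or.inl rfl) (by rw [hF]; exact hr)
    · exact piso_G2 (p := 3) (by rw [hF]; norm_num) (Or.inr rfl) (by rw [hF]; exact hr)
  have hbig : ∀ C : ℕ → Prop, BigP ↥(chevG2.group F) 3 6 36 C := by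
    intro C S _ _ hs hna hd _ h3
    rw [hc] at hd ⊢
    refine simple_three hS0 S hs hna hd ?_
    have h4 : 3 ^ 2 * 3 ^ 4 ∣ 3 ^ 2 * (4 * Nat.card S) := by
      rw [← mul_assoc]
      exact h3
    exact (Nat.Coprime.pow_left 4 (by norm_num)).dvd_of_dvd_mul_left (Nat.dvd_of_mul_dvd_mul_left (by norm_num) h4)
  refine noFac_of_tori htori Nat.prime_three hbt ?_ ?_
  · intro i₀ M hM h1 h2
    apply hM
    have key : ∀ i : Fin 2, i ≠ i₀ → (rows_G2 i).e = 6 → (rows_G2 i₀).e = 6 → M = ⊤ := by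
      intro i hi he he0
      refine htori.bigp hE Nat.prime_three i i₀ M (fun r hr => h1 i r hi hr) (hbt i) h2 ?_ ?_ (N := 6)
        (by rw [hc]; norm_num) ?_ ?_
      · rw [he]; norm_num
      · rw [he0]; norm_num
      · rw [he, he0]; norm_num
      · rw [he, he0]; exact hbig _
    fin_cases i₀
    · exact key 1 (by decide) rfl rfl
    · exact key 0 (by decide) rfl rfl
  · intro H M hH hM hfac hfull hsolv
    obtain ⟨r, hr⟩ := H436.exists_prim (q := 3) (e := 3) (by norm_num) le_rfl (by norm_num)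
    obtain rfl := prim_three_three hr
    obtain ⟨s, hs⟩ := H436.exists_prim (q := 3) (e := 6) (by norm_num) (by norm_num) (by norm_num)
    obtain rfl := prim_three_six hs
    have h13 := dvd_card_of_not_dvd_index (by norm_num) (by rw [hc]; norm_num) (hfull 0 13 hr)
    have h7 := dvd_card_of_not_dvd_index (by norm_num) (by rw [hc]; norm_num) (hfull 1 7 hs)
    have hM1092 := hK M hM h7 h13
    have hidx : M.index = 3888 := by
      have h1 := Subgroup.card_mul_index M
      rw [hM1092, hc] at h1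
      omega
    have hHM := index_dvd_of_factor H M hfac
    rw [hidx] at hHM
    have h35 : 3 ^ 5 ∣ Nat.card H := (by norm_num : 3 ^ 5 ∣ 3888).trans hHM
    have hH13 : ¬ 13 ∣ Nat.card H := fun h => absurd (hsolv 0 13 5 hr h h35) (by decide)
    have hH7 : ¬ 7 ∣ Nat.card H := fun h => absurd (hsolv 1 7 5 hs h h35) (by decide)
    have hHd : Nat.card H ∣ 2 ^ 6 * 3 ^ 6 := by
      refine coprime_of (a := 7) (b := 13) ?_ (by norm_num) (by norm_num) hH7 hH13
      have h1 := Subgroup.card_subgroup_dvd_card H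
      rw [hc] at h1
      exact h1
    obtain ⟨V, hVn, hV1, hV⟩ := H396.ThreeOnTwo.exists_three (G := ↥H) hHd h35
    obtain ⟨V', hV1', hV', hle⟩ := exists_le_normalizer H V hVn hV1 hV
    have h1 := (Subgroup.card_dvd_of_le hle).trans (card_local_dvd (p := 3) hF hV' hV1')
    have h2 := two_dvd_of_conj H M hfac
      (fun s t hs ht => Cfsg.Agent.S4278.result (by rw [hF]; decide) s t hs ht)
      ((by norm_num : 2 ∣ 3888).trans hHM) (by rw [hM1092]; norm_num)
    rw [hidx] at h2
    have h3 := h2.trans h1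
    norm_num at h3

theorem exists_two_elts (hF : 3 < Fintype.card F) :
    ∃ a a' : F, a ≠ 0 ∧ a ≠ 1 ∧ a' ≠ 0 ∧ a' ≠ 1 ∧ a ≠ a' := by
  classical
  have h1 : 1 < ((Finset.univ.erase (0 : F)).erase 1).card := by
    rw [Finset.card_erase_of_mem (by simp), Finset.card_erase_of_mem (Finset.mem_univ _), Finset.card_univ]
    omega
  obtain ⟨a, ha, b, hb, hab⟩ := Finset.one_lt_card.1 h1
  simp only [Finset.mem_erase, Finset.mem_univ, and_true] at ha hb
  exact ⟨a, b, ha.2, ha.1, hb.2, hb.1, hab⟩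

/-- **`G₂(4)`.** -/
theorem noFac_G2_four (hE : CycFixSolv.{u}) (hF : Fintype.card F = 4)
    (hK : ∀ M : Subgroup ↥(chevG2.group F), M ≠ ⊤ → 7 ∣ Nat.card M → 13 ∣ Nat.card M → Nat.card M = 1092) :
    NoFac ↥(chevG2.group F) := by
  have i2 : Fact (Nat.Prime 2) := ⟨Nat.prime_two⟩
  have hchar : CharP F 2 := charP_of_card (f := 2) Nat.prime_two hF
  have hc := card_four hF
  have hfin : Finite ↥(chevG2.group F) := Nat.finite_of_card_ne_zero (by rw [hc]; norm_num)
  have htori := tori_G2 hF Nat.prime_two (by norm_num) (by norm_num)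
  have hbt : ∀ i r, H436.Prim 4 (rows_G2 i).i r → BT ↥(chevG2.group F) 2 r := by
    intro i r hr
    fin_cases i
    · exact piso_G2 (p := 2) (by rw [hF]; norm_num) (Or.inl rfl) (by rw [hF]; exact hr)
    · exact piso_G2 (p := 2) (by rw [hF]; norm_num) (Or.inr rfl) (by rw [hF]; exact hr)
  have hPar : ParP 2 ↥(chevG2.group F) := fun M hM h =>
    (H396.CommTab.hasCG_G2 F 2 (exists_two_elts (by rw [hF]; norm_num))).par M hM h
  refine noFac_of_tori htori Nat.prime_two hbt ?_ ?_
  · intro i₀ M hM h1 h2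
    apply hM
    have key : ∀ i : Fin 2, i ≠ i₀ → (rows_G2 i).e = 6 → (rows_G2 i₀).e = 6 → M = ⊤ := by
      intro i hi he he0
      refine htori.bigp' hE Nat.prime_two i i₀ M (fun r hr => h1 i r hi hr) (hbt i) hPar h2 ?_ ?_ (N := 12)
        (by rw [hc]; norm_num) ?_ ?_
      · rw [he]; norm_num
      · rw [he0]; norm_num
      · rw [he, he0]; norm_num
      · rw [he0]; intro h; norm_num at h
    fin_cases i₀
    · exact key 1 (by decide) rfl rfl
    · exact key 0 (by decide) rfl rfl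
  · intro H M hH hM hfac hfull hsolv
    obtain ⟨r, hr⟩ := H436.exists_prim (q := 4) (e := 3) (by norm_num) le_rfl (by norm_num)
    obtain rfl := prim_four_three hr
    obtain ⟨s, hs⟩ := H436.exists_prim (q := 4) (e := 6) (by norm_num) (by norm_num) (by norm_num)
    obtain rfl := prim_four_six hs
    have h7 := dvd_card_of_not_dvd_index (by norm_num) (by rw [hc]; norm_num) (hfull 0 7 hr)
    have h13 := dvd_card_of_not_dvd_index (by norm_num) (by rw [hc]; norm_num) (hfull 1 13 hs)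
    have hM1092 := hK M hM h7 h13
    have hidx : M.index = 230400 := by
      have h1 := Subgroup.card_mul_index M
      rw [hM1092, hc] at h1
      omega
    have hHM := index_dvd_of_factor H M hfac
    rw [hidx] at hHM
    have h210 : 2 ^ 10 ∣ Nat.card H := (by norm_num : 2 ^ 10 ∣ 230400).trans hHM
    have hH7 : ¬ 7 ∣ Nat.card H := fun h => absurd (hsolv 0 7 10 hr h h210) (by decide)
    have hH13 : ¬ 13 ∣ Nat.card H := fun h => absurd (hsolv 1 13 10 hs h h210) (by decide)
    have hHd : Nat.card H ∣ 2 ^ 12 * 3 ^ 3 * 5 ^ 2 := by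
      refine coprime_of (a := 7) (b := 13) ?_ (by norm_num) (by norm_num) hH7 hH13
      have h1 := Subgroup.card_subgroup_dvd_card H
      rw [hc] at h1
      exact h1
    obtain ⟨t, ht⟩ := hHM
    have ht12 : t ∣ 12 := by
      rw [ht] at hHd
      exact Nat.dvd_of_mul_dvd_mul_left (k := 230400) (by norm_num) (by norm_num at hHd ⊢; exact hHd)
    have hKH : ∃ (a : ℕ) (K : Subgroup H), 10 ≤ a ∧ Nat.card K = 2 ^ a * 25 := by
      have h12 : t ≤ 12 := Nat.le_of_dvd (by norm_num) ht12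
      have key : ∀ a b : ℕ, 10 ≤ a → Nat.card H = 2 ^ a * 25 * 3 ^ b →
          ∃ (a : ℕ) (K : Subgroup H), 10 ≤ a ∧ Nat.card K = 2 ^ a * 25 := by
        intro a b ha h
        obtain ⟨K, hK⟩ := Solvable.Hall.hall_exists (2 ^ a * 25) (3 ^ b) h
          (Nat.Coprime.mul_left (Nat.Coprime.pow _ _ (by norm_num))
            (Nat.Coprime.pow_right _ (by norm_num)))
        exact ⟨a, K, ha, hK⟩
      interval_cases t
      · norm_num at ht12
      · exact key 10 2 le_rfl (by rw [ht]; norm_num)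
      · exact key 11 2 (by norm_num) (by rw [ht]; norm_num)
      · exact key 10 3 le_rfl (by rw [ht]; norm_num)
      · exact key 12 2 (by norm_num) (by rw [ht]; norm_num)
      · norm_num at ht12
      · exact key 11 3 (by norm_num) (by rw [ht]; norm_num)
      · norm_num at ht12
      · norm_num at ht12
      · norm_num at ht12
      · norm_num at ht12
      · norm_num at ht12
      · exact key 12 3 (by norm_num) (by rw [ht]; norm_num)
    obtain ⟨a, K, ha, hKc⟩ := hKH
    let K' : Subgroup ↥(chevG2.group F) := K.map H.subtype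
    let eK : ↥K ≃* ↥K' := K.equivMapOfInjective _ H.subtype_injective
    have hKc' : Nat.card K' = 2 ^ a * 25 := by rw [← hKc]; exact (Nat.card_congr eK.toEquiv).symm
    have hsK : Group.IsSolvable K' := Group.isSolvable_of_surjective (f := eK.toMonoidHom) eK.surjective
    obtain ⟨V, hVn, hV1, hV⟩ := exists_two (K := ↥K') ha hKc'
    obtain ⟨V', hV1', hV', hle⟩ := exists_le_normalizer K' V hVn hV1 hV
    have h1 := (Subgroup.card_dvd_of_le hle).trans (card_local_dvd (p := 2) hF hV' hV1')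
    rw [hKc'] at h1
    have h2 := (Dvd.intro_left _ rfl : 25 ∣ 2 ^ a * 25).trans h1
    norm_num at h2

end Rows

end G2

end Cfsg.Agent.H325.G2Small
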