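import Cfsg.Agent.H325.IsoRgd
import Cfsg.Agent.H138.SqChev2
import Cfsg.Agent.KFacts.RgdFiltChev
import Cfsg.Agent.KFacts.RgdFiltTwAll
import Cfsg.Agent.S1054
import Cfsg.Agent.S1055
import Cfsg.Agent.S1070
import Cfsg.Agent.S1071

/-!
# Isolated primes of the exceptional groups

`PIso p u T` for the primitive prime divisors `u` of `q ^ d - 1`: `E₈(q)`: `d = 20, 24`; `E₇(q)`: `d = 14`;
`E₆(q)`: `d = 9`; `F₄(q)`: `d = 8, 12`; `G₂(q)`: `d = 3, 6`; `²E₆(q)`: `d = 12, 18`; `³D₄(q)`: `d = 12`.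
-/

set_option autoImplicit false
set_option linter.unusedSectionVars false

namespace Cfsg.Agent.H325.IsoExc

open Cfsg
open CoxeterSystem Cfsg.Agent.ChevalleyStructure.CoxeterGeom Cfsg.Agent.Tits.Roots Cfsg.Agent.Tits.Core
open Cfsg.Agent.Nodes Cfsg.Agent.Nodes.BNOf Cfsg.Agent.Nodes.RGDLib Cfsg.Agent.Nodes.RGDChev
open Cfsg.Agent.ChevalleyStructure Cfsg.Agent.ChevalleyStructure.Elts Cfsg.Agent.ChevalleyStructure.NPerm
  Cfsg.Agent.ChevalleyStructure.CoxeterGeomTypes
open Cfsg.Agent.Omega.EH3.Kf Cfsg.Agent.Omega.EH3.Kf.Lev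
open Cfsg.Agent.ParSys.RootCount Cfsg.Agent.ParSys.RootExc
open Cfsg.Agent.H138.SqBase Cfsg.Agent.H138.SqChev Cfsg.Agent.H138.SqChev2
open Cfsg.Agent.H396 (Conn)
open Cfsg.Agent.H325.Loc Cfsg.Agent.H325.IsoRgd Cfsg.Agent.KFacts.RgdFilt
open Cfsg.Lie

universe u

theorem nc_of {G : Type*} [Group G] (h : ¬ IsMulCommutative G) : ∃ a b : G, a * b ≠ b * a := by
  by_contra hcon
  push Not at hcon
  exact h ⟨⟨hcon⟩⟩

section Gen

variable {D : ChevalleyDatum} {l : ℕ} {M : CoxeterMatrix (Fin l)} (hp : IsType D l M) (K : Type u)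
  [Field K]

include hp

theorem piso_chev [Fintype K] {p : ℕ} [Fact p.Prime] [CharP K p]
    (hs : IsSimpleGroup ↥(D.group K) ∧ ¬ IsMulCommutative ↥(D.group K)) (hF : HasFilt p ↥(D.group K))
    {A₀ : Fin l → Fin l → ℤ} (hA : cartanOf D l = A₀) {L : List (Fin l → ℤ)}
    (hR : PosRoots A₀ L.toFinset) (hN : L.Nodup) {d : ℕ} (hd : 3 ≤ d)
    {Tb : List (ℕ × ℕ)} (hTb : (L.map fun v => (supp v, 1)) = Tb) {bad : List ℕ} (hchk : chk l d Tb bad = true)
    (hbad : ∀ J : Finset (Fin l), mJ J ∈ bad →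
      ∃ J₁ : Finset (Fin l), J₁ ⊆ J ∧ J₁.Nonempty ∧ J₁ ≠ J ∧ ∀ a ∈ J₁, ∀ b ∈ J, b ∉ J₁ → M a b = 2)
    {u : ℕ} (hu : H436.Prim (Fintype.card K) d u) : PIso p u ↥(D.group K) := by
  have hW : Finite M.Group := finite_W hp M.toCoxeterSystem
  have hs1 := hs.1
  subst hA
  refine piso_of_tab (nc_of hs.2) hF (rgd (K := K) hp M.toCoxeterSystem p) (G1_eq_top hp _) hR hN
    (len := fun _ => 1) (fun _ _ _ _ => rfl) (Fintype.one_lt_card (α := K)) ?_ (fun i => ?_) hu (by omega) ?_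
    hTb hchk hbad
  · obtain ⟨k, hk⟩ := FiniteField.card K p
    rw [hk.2]
    exact dvd_pow_self p k.ne_zero
  · rw [pow_one]
    exact card_X hp K i
  · refine not_dvd_of_pow (e := 1) hu (by intro h1; have := Nat.le_of_dvd one_pos h1; omega) ?_
    intro t ht
    rw [pow_one]
    apply Subtype.ext
    rw [SubgroupClass.coe_pow]
    exact diag_pow hp K (Subgroup.mem_subgroupOf.1 ht)

end Gen

section Untwisted

variable {F : Type} [Field F] [Fintype F] {p : ℕ} [Fact p.Prime] [CharP F p] {w : ℕ}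

theorem piso_E6 (hu : H436.Prim (Fintype.card F) 9 w) : PIso p w ↥(chevE6.group F) := by
  have hp : IsType chevE6 6 CoxeterMatrix.E₆ := by simp [IsType, typeList]
  have hW : Finite CoxeterMatrix.E₆.Group := finite_W hp CoxeterMatrix.E₆.toCoxeterSystem
  have h4 : ∀ i j, CoxeterMatrix.E₆ i j ≠ 4 := fun i j => (H396.CommTab.lab_E6 i j).1
  have h6 : ∀ i j, CoxeterMatrix.E₆ i j ≠ 6 := fun i j => (H396.CommTab.lab_E6 i j).2
  exact piso_chev (p := p) hp F (Cfsg.Agent.S1054.result chevE6 (by simp))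
    (Cfsg.Agent.KFacts.RgdFiltChev.hasFilt_E6 F p)
    (Omega.EH3Close.Numb.cartan_eq hp.isCartan ParSys.RootExc.isCartan_E6 h4 h6)
    (L := LE6) posRoots_E6 (by decide +kernel) (d := 9) (by norm_num) rfl (bad := [])
    (by decide +kernel) (fun J hJ => absurd hJ (by simp)) hu

theorem piso_E7 (hu : H436.Prim (Fintype.card F) 14 w) : PIso p w ↥(chevE7.group F) := by
  have hp : IsType chevE7 7 CoxeterMatrix.E₇ := by simp [IsType, typeList]
  have hW : Finite CoxeterMatrix.E₇.Group := finite_W hp CoxeterMatrix.E₇.toCoxeterSystem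
  have h4 : ∀ i j, CoxeterMatrix.E₇ i j ≠ 4 := fun i j => (H396.CommTab.lab_E7 i j).1
  have h6 : ∀ i j, CoxeterMatrix.E₇ i j ≠ 6 := fun i j => (H396.CommTab.lab_E7 i j).2
  refine piso_chev (p := p) hp F (Cfsg.Agent.S1054.result chevE7 (by simp))
    (Cfsg.Agent.KFacts.RgdFiltChev.hasFilt_E7 F p)
    (Omega.EH3Close.Numb.cartan_eq hp.isCartan ParSys.RootExc.isCartan_E7 h4 h6)
    (L := LE7) posRoots_E7 (by decide +kernel) (d := 14) (by norm_num) rfl (bad := [55, 103, 107])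
    (by decide +kernel) (fun J hJ => ?_) hu
  simp only [List.mem_cons, List.not_mem_nil, or_false] at hJ
  have e1 : mJ ({0, 1, 2, 4, 5} : Finset (Fin 7)) = 55 := by decide +kernel
  have e2 : mJ ({0, 1, 2, 5, 6} : Finset (Fin 7)) = 103 := by decide +kernel
  have e3 : mJ ({0, 1, 3, 5, 6} : Finset (Fin 7)) = 107 := by decide +kernel
  rcases hJ with hJ | hJ | hJ
  · obtain rfl := mJ_inj (hJ.trans e1.symm)
    exact ⟨{1}, by decide +kernel, by decide +kernel, by decide +kernel, fun a ha b => dis_E7_1 a b ha⟩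
  · obtain rfl := mJ_inj (hJ.trans e2.symm)
    exact ⟨{1}, by decide +kernel, by decide +kernel, by decide +kernel, fun a ha b => dis_E7_2 a b ha⟩
  · obtain rfl := mJ_inj (hJ.trans e3.symm)
    exact ⟨{0}, by decide +kernel, by decide +kernel, by decide +kernel, fun a ha b => dis_E7_3 a b ha⟩

theorem piso_E8 {d : ℕ} (hd : d = 20 ∨ d = 24) (hu : H436.Prim (Fintype.card F) d w) :
    PIso p w ↥(chevE8.group F) := by
  have hp : IsType chevE8 8 CoxeterMatrix.E₈ := by simp [IsType, typeList]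
  have hW : Finite CoxeterMatrix.E₈.Group := finite_W hp CoxeterMatrix.E₈.toCoxeterSystem
  have h4 : ∀ i j, CoxeterMatrix.E₈ i j ≠ 4 := fun i j => (H396.CommTab.lab_E8 i j).1
  have h6 : ∀ i j, CoxeterMatrix.E₈ i j ≠ 6 := fun i j => (H396.CommTab.lab_E8 i j).2
  refine piso_chev (p := p) hp F (Cfsg.Agent.S1054.result chevE8 (by simp))
    (Cfsg.Agent.KFacts.RgdFiltChev.hasFilt_E8 F p)
    (Omega.EH3Close.Numb.cartan_eq hp.isCartan ParSys.RootExc.isCartan_E8 h4 h6)
    (L := LE8) posRoots_E8 (by decide +kernel) (d := d) (by omega) rfl (bad := [])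
    ?_ (fun J hJ => absurd hJ (by simp)) hu
  rcases hd with rfl | rfl
  · decide +kernel
  · decide +kernel

set_option backward.isDefEq.respectTransparency false in
theorem dis_F4_1 : ∀ a b : Fin 4, a ∈ ({3} : Finset (Fin 4)) → b ∈ ({0, 1, 3} : Finset (Fin 4)) →
    b ∉ ({3} : Finset (Fin 4)) → CoxeterMatrix.F₄ a b = 2 := by decide +kernel

set_option backward.isDefEq.respectTransparency false in
theorem dis_F4_2 : ∀ a b : Fin 4, a ∈ ({0} : Finset (Fin 4)) → b ∈ ({0, 2, 3} : Finset (Fin 4)) →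
    b ∉ ({0} : Finset (Fin 4)) → CoxeterMatrix.F₄ a b = 2 := by decide +kernel

theorem piso_F4 {d : ℕ} (hd : d = 8 ∨ d = 12) (hu : H436.Prim (Fintype.card F) d w) :
    PIso p w ↥(chevF4.group F) := by
  have hp := Omega.ML.Ex.Lie2.DatF4.isType_F4
  refine piso_chev (p := p) hp F (Cfsg.Agent.S1054.result chevF4 (by simp))
    (Cfsg.Agent.KFacts.RgdFiltChev.hasFilt_F4 F p)
    (A₀ := BF) (by decide +kernel)
    (L := LF) posRoots_F (by decide +kernel) (d := d) (by omega) rfl (bad := [11, 13])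
    ?_ (fun J hJ => ?_) hu
  · rcases hd with rfl | rfl
    · decide +kernel
    · decide +kernel
  · simp only [List.mem_cons, List.not_mem_nil, or_false] at hJ
    have e1 : mJ ({0, 1, 3} : Finset (Fin 4)) = 11 := by decide +kernel
    have e2 : mJ ({0, 2, 3} : Finset (Fin 4)) = 13 := by decide +kernel
    rcases hJ with hJ | hJ
    · obtain rfl := mJ_inj (hJ.trans e1.symm)
      exact ⟨{3}, by decide +kernel, by decide +kernel, by decide +kernel, fun a ha b => dis_F4_1 a b ha⟩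
    · obtain rfl := mJ_inj (hJ.trans e2.symm)
      exact ⟨{0}, by decide +kernel, by decide +kernel, by decide +kernel, fun a ha b => dis_F4_2 a b ha⟩

theorem piso_G2 (hF : 2 < Fintype.card F) {d : ℕ} (hd : d = 3 ∨ d = 6) (hu : H436.Prim (Fintype.card F) d w) :
    PIso p w ↥(chevG2.group F) := by
  have hp := FamG2.isType
  refine piso_chev (p := p) hp F (Cfsg.Agent.S1055.result (exists_ne_of_card hF))
    (Cfsg.Agent.KFacts.RgdFiltChev.hasFilt_G2 F p)
    (A₀ := BG) (by decide +kernel)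
    (L := LG) posRoots_G (by decide +kernel) (d := d) (by omega) rfl (bad := [])
    ?_ (fun J hJ => absurd hJ (by simp)) hu
  rcases hd with rfl | rfl
  · decide +kernel
  · decide +kernel

end Untwisted

/-! ### twisted groups -/

section D4

open Cfsg.Agent.Nodes.RGDTwGen Cfsg.Agent.Nodes.RGDFold
open Cfsg.Agent.ChevalleyStructure.TwistedU Cfsg.Agent.ChevalleyStructure.TwistedFix
open Cfsg.Agent.ChevalleyStructure.D4Fixed (sig)
open Cfsg.Agent.ChevalleyStructure.D4U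
open Cfsg.Agent.Nodes.RGDTwD4 Cfsg.Agent.Hexagon
open Cfsg.Agent.SplitTwo (HexPar HexRel)

variable {K : Type} [Field K] [Fintype K] {p : ℕ} [Fact p.Prime] [CharP K p] {w : ℕ}

theorem piso_twD4 {q : ℕ} (hq : IsPrimePow q) (hK : Fintype.card K = q ^ 3) (hu : H436.Prim q 12 w) :
    PIso p w ↥(twistedD4 K q) := by
  obtain ⟨φ, hφ⟩ := D4Fixed.exists_frob hq hK
  let σ : K ≃+* K := RingEquiv.ofBijective φ ((Finite.injective_iff_bijective).1 φ.injective)
  have hσ : ∀ x, σ x = φ x := fun x => rfl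
  have h3 : ∀ a, σ (σ (σ a)) = a := by
    intro t
    rw [hσ, hσ, hσ, hφ, hφ, hφ, ← pow_mul, ← pow_mul]
    have : q * (q * q) = q ^ 3 := by ring
    rw [this, ← hK]
    exact FiniteField.pow_card t
  have hle := D4Fixed.twisted_le_fix hK hφ
  have P := TwD4Par.hexPar hφ hle hσ h3
  have hfin : Finite ↥(twistedD4 K q) := inferInstance
  have hW : Finite CoxeterMatrix.G₂.Group :=
    RGDFold.finite_W (hp := RGDTwD4.hp) CoxeterMatrix.G₂.toCoxeterSystem RGDTwD4.isCartan foldData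
  have hs := Cfsg.Agent.S1071.result hq hK
  have hs1 := hs.1
  refine piso_of_tab (nc_of hs.2) (Cfsg.Agent.KFacts.RgdFiltTwAll.hasFilt_D4 hq hK p)
    (RGDTwD4.rgd CoxeterMatrix.G₂.toCoxeterSystem hK hφ p)
    (RGDTwD4.G1_eq_top CoxeterMatrix.G₂.toCoxeterSystem hK hφ)
    (L := LD) posRoots_D (by decide +kernel) (len := lenD) (by decide +kernel)
    hq.two_le ?_ (fun i => ?_) hu (by norm_num) ?_ rfl (bad := []) (by decide +kernel)
    (fun J hJ => absurd hJ (by simp))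
  · obtain ⟨k, hk⟩ := FiniteField.card K p
    have h1 : p ∣ q ^ 3 := by rw [← hK, hk.2]; exact dvd_pow_self p k.ne_zero
    exact (Fact.out : p.Prime).dvd_of_dvd_pow h1
  · fin_cases i
    · change Nat.card (RGDTwD4.X φ q (sr 0)) = q ^ 1
      rw [pow_one, FamD4.X_sr0 hle, card_of_mem (α := {x : K // x ^ q = x})
        (fun t => (TwD4Par.ev TwD4Rel.X6 : K → ↥(twistedD4 K q)) t.1)]
      · exact FixedCard.card_fixed hq.one_lt hK
      · intro a b hab
        refine Subtype.ext (P.inj6 _ _ ?_ ?_ hab)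
        · rw [hσ, hφ]; exact a.2
        · rw [hσ, hφ]; exact b.2
      · intro g
        rw [P.mem6]
        constructor
        · rintro ⟨a, ha, rfl⟩
          rw [hσ, hφ] at ha
          exact ⟨⟨a, ha⟩, rfl⟩
        · rintro ⟨a, rfl⟩
          exact ⟨a.1, by rw [hσ, hφ]; exact a.2, rfl⟩
    · change Nat.card (RGDTwD4.X φ q (sr 1)) = q ^ 3
      rw [FamD4.X_sr1 hle, card_of_mem (α := K)
        (fun t => (TwD4Par.ev (TwD4Rel.X1 σ) : K → ↥(twistedD4 K q)) t), Nat.card_eq_fintype_card, hK]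
      · intro a b hab
        exact P.inj1 _ _ hab
      · exact P.mem1
  · refine not_dvd_of_pow (e := 3) hu (by norm_num) ?_
    intro t ht
    apply Subtype.ext
    rw [SubgroupClass.coe_pow, ← hK]
    exact diag_pow RGDTwD4.hp K ht.1

end D4

section E6

open Cfsg.Agent.Nodes.RGDTwE6 Cfsg.Agent.Nodes.RGDTwCoordE6 Cfsg.Agent.Nodes.RGDTwCoord
  Cfsg.Agent.Nodes.RGDTwComE6 Cfsg.Agent.Nodes.RGDTwActE6 Cfsg.Agent.Nodes.RGDTwTab
  Cfsg.Agent.KFacts.TwESix.Comb

variable {K : Type} [Field K] [Fintype K] {p : ℕ} [Fact p.Prime] [CharP K p] {w : ℕ}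

theorem piso_twE6 {q : ℕ} (hq : IsPrimePow q) (hK : Fintype.card K = q ^ 2) {d : ℕ} (hd : d = 12 ∨ d = 18)
    (hu : H436.Prim q d w) : PIso p w ↥(twistedE6 K q) := by
  obtain ⟨φ, hφ, hqq⟩ := ChevalleyStructure.TwE6Basic.exists_frob hq hK
  have hfin : Finite ↥(twistedE6 K q) := inferInstance
  have hW : Finite CoxeterMatrix.F₄.Group := finiteW CoxeterMatrix.F₄.toCoxeterSystem
  have hs := Cfsg.Agent.S1070.result hq hK
  have hs1 := hs.1
  refine piso_of_tab (nc_of hs.2) (Cfsg.Agent.KFacts.RgdFiltTwAll.hasFilt_E6 hq hK p)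
    (RGDTwE6.rgd CoxeterMatrix.F₄.toCoxeterSystem hφ hqq p)
    (RGDTwE6.G1_eq_top CoxeterMatrix.F₄.toCoxeterSystem hφ hqq)
    (L := ParSys.RootExc.LF4) ParSys.RootExc.posRoots_F4 (by decide +kernel)
    (len := lenE) (by decide +kernel)
    hq.two_le ?_ (fun i => ?_) hu (by omega) ?_ rfl (bad := []) ?_
    (fun J hJ => absurd hJ (by simp))
  · obtain ⟨k, hk⟩ := FiniteField.card K p
    have h1 : p ∣ q ^ 2 := by rw [← hK, hk.2]; exact dvd_pow_self p k.ne_zero
    exact (Fact.out : p.Prime).dvd_of_dvd_pow h1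
  · have hlong : ∀ i : Fin 4, Lg (sr i) → Nat.card (RGDTwE6.X φ q (sr i)) = q := by
      intro i hl
      have hr := isRoot_sr CoxeterMatrix.F₄.toCoxeterSystem RGDTwE6.isCartan i
      rw [card_of_mem (α := {x : K // x ^ q = x}) (fun t => RGDTwComE6.x φ q (sr i) t.1)]
      · exact FixedCard.card_fixed hq.one_lt hK
      · intro a b hab
        refine Subtype.ext (RGDTwActE6.x_inj hφ hqq hr (ok_long hr hl ?_) (ok_long hr hl ?_) hab)
        · rw [hφ]; exact a.2
        · rw [hφ]; exact b.2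
      · intro g
        rw [mem_X_long hφ hqq hr hl]
        constructor
        · rintro ⟨a, ha, rfl⟩
          rw [hφ] at ha
          exact ⟨⟨a, ha⟩, rfl⟩
        · rintro ⟨a, rfl⟩
          exact ⟨a.1, by rw [hφ]; exact a.2, rfl⟩
    have hshort : ∀ i : Fin 4, St (sr i) → Nat.card (RGDTwE6.X φ q (sr i)) = q ^ 2 := by
      intro i hl
      have hr := isRoot_sr CoxeterMatrix.F₄.toCoxeterSystem RGDTwE6.isCartan i
      rw [card_of_mem (α := K) (fun t => RGDTwComE6.x φ q (sr i) t), Nat.card_eq_fintype_card, hK]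
      · intro a b hab
        exact RGDTwActE6.x_inj hφ hqq hr (ok_short hφ hqq hr hl a) (ok_short hφ hqq hr hl b) hab
      · exact mem_X_short hφ hqq hr hl
    have t1 : ∀ i : Fin 4, (i = 0 ∨ i = 1) → Lg (sr i) ∧ lenE (Pi.single i 1) = 1 := by decide +kernel
    have t2 : ∀ i : Fin 4, ¬ (i = 0 ∨ i = 1) → St (sr i) ∧ lenE (Pi.single i 1) = 2 := by decide +kernel
    by_cases hi : i = 0 ∨ i = 1
    · rw [(t1 i hi).2, pow_one]
      exact hlong i (t1 i hi).1
    · rw [(t2 i hi).2]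
      exact hshort i (t2 i hi).1
  · refine not_dvd_of_pow (e := 2) hu (by rcases hd with rfl | rfl <;> norm_num) ?_
    intro t ht
    apply Subtype.ext
    rw [SubgroupClass.coe_pow, ← hK]
    exact diag_pow RGDTwE6.hp K ht.1
  · rcases hd with rfl | rfl
    · decide +kernel
    · decide +kernel

end E6

end Cfsg.Agent.H325.IsoExc
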