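import Cfsg.Agent.Lib.Cores
import Cfsg.Agent.Lib.MinNormal
import Cfsg.Agent.Lib.SubnormalJoin
import Cfsg.Agent.Lib.PGroupCoprimeAction
import Cfsg.Agent.S0058

/-!
# Groups with a prime isolated from the `p`-local subgroups

`PIso p r G`: `r` divides the order of no `p`-local subgroup of `G`. If `r` divides `|G|` and `G` has a non-cyclic
abelian `p`-subgroup, then `G / O_{p'}(G)` is almost simple, with socle `S` of order divisible by `p` and by all primes
`s ≠ p` dividing `|G|` which are isolated; `|O_{p'}(G)|` is divisible by none of them (`almost_simple`).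
-/

set_option autoImplicit false

namespace Cfsg.Agent.H325.Loc

open Subgroup Cfsg.Agent.Lib.Cores Cfsg

variable {G : Type*} [Group G]

/-- `r` divides the order of no `p`-local subgroup -/
def PIso (p r : ℕ) (G : Type*) [Group G] : Prop :=
  ∀ Q : Subgroup G, IsPGroup p Q → Q ≠ ⊥ → ¬ r ∣ Nat.card (normalizer (Q : Set G))

theorem PIso.of_le {p r : ℕ} (h : PIso p r G) {Q H : Subgroup G} (hQ : IsPGroup p Q) (hQ1 : Q ≠ ⊥)
    (hH : ∀ x ∈ H, ∀ y ∈ Q, x * y * x⁻¹ ∈ Q) : ¬ r ∣ Nat.card H := by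
  intro hr
  refine h Q hQ hQ1 (hr.trans (card_dvd_of_le fun x hx => ?_))
  rw [mem_normalizer_iff]
  intro y
  refine ⟨fun hy => hH x hx y hy, fun hy => ?_⟩
  have := hH x⁻¹ (H.inv_mem hx) _ hy
  have e : x⁻¹ * (x * y * x⁻¹) * x⁻¹⁻¹ = y := by group
  rwa [e] at this

/-- no element of order `r` commutes with one of order `p` -/
theorem PIso.not_commute {p r : ℕ} (h : PIso p r G) (hp : p.Prime) {x y : G} (hx : orderOf x = p)
    (hy : orderOf y = r) (hc : Commute x y) : False := by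
  refine h.of_le (Q := zpowers x) (H := zpowers y) ?_ ?_ ?_ ?_
  · exact IsPGroup.of_card (n := 1) (by rw [Nat.card_zpowers, hx, pow_one])
  · rw [Ne, zpowers_eq_bot]
    rintro rfl
    rw [orderOf_one] at hx
    exact hp.one_lt.ne hx
  · rintro _ ⟨i, rfl⟩ _ ⟨j, rfl⟩
    have : y ^ i * x ^ j * (y ^ i)⁻¹ = x ^ j := by
      rw [(hc.symm.zpow_zpow i j).eq, mul_inv_cancel_right]
    change y ^ i * x ^ j * (y ^ i)⁻¹ ∈ _
    rw [this]
    exact ⟨j, rfl⟩
  · rw [Nat.card_zpowers, hy]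

/-- passage to subgroups -/
theorem PIso.sub {p r : ℕ} (h : PIso p r G) (M : Subgroup G) : PIso p r M := by
  intro Q hQ hQ1 hr
  refine h.of_le (Q := Q.map M.subtype) (H := (normalizer (Q : Set M)).map M.subtype) (hQ.map _) ?_ ?_ ?_
  · rw [Ne, map_eq_bot_iff_of_injective _ M.subtype_injective]
    exact hQ1
  · rintro _ ⟨x, hx, rfl⟩ _ ⟨y, hy, rfl⟩
    exact ⟨x * y * x⁻¹, (mem_normalizer_iff.1 hx y).1 hy, rfl⟩
  · rw [← Nat.card_congr ((normalizer (Q : Set M)).equivMapOfInjective _ M.subtype_injective).toEquiv]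
    exact hr

theorem PIso.congr {p r : ℕ} {H : Type*} [Group H] (e : G ≃* H) (h : PIso p r G) : PIso p r H := by
  intro Q hQ hQ1 hr
  refine h.of_le (Q := Q.map e.symm.toMonoidHom) (H := (normalizer (Q : Set H)).map e.symm.toMonoidHom)
    (hQ.map _) ?_ ?_ ?_
  · rw [Ne, map_eq_bot_iff_of_injective _ e.symm.injective]
    exact hQ1
  · rintro _ ⟨x, hx, rfl⟩ _ ⟨y, hy, rfl⟩
    refine ⟨x * y * x⁻¹, (mem_normalizer_iff.1 hx y).1 hy, ?_⟩
    rw [map_mul, map_mul, map_inv]
  · rw [← Nat.card_congr ((normalizer (Q : Set H)).equivMapOfInjective e.symm.toMonoidHom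
      e.symm.injective).toEquiv]
    exact hr

variable [Finite G]

/-- **Frattini**: an isolated prime divides the order of every normal subgroup of order divisible by `p`. -/
theorem PIso.dvd_normal {p r : ℕ} [Fact p.Prime] (h : PIso p r G) (hr : r.Prime) (hG : r ∣ Nat.card G)
    (N : Subgroup G) [N.Normal] (hN : p ∣ Nat.card N) : r ∣ Nat.card N := by
  let P : Sylow p N := default
  have hP1 : (P : Subgroup N).map N.subtype ≠ ⊥ := by
    rw [Ne, map_eq_bot_iff_of_injective _ N.subtype_injective]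
    intro h0
    exact P.ne_bot_of_dvd_card hN h0
  have h1 := h _ (P.2.map N.subtype) hP1
  have h2 := P.normalizer_sup_eq_top
  have h3 : N.index = N.relIndex (normalizer (((P : Subgroup N).map N.subtype : Subgroup G) : Set G)) := by
    rw [← relIndex_top_right, ← h2, relIndex_sup_right]
  have h4 : N.index ∣ Nat.card (normalizer (((P : Subgroup N).map N.subtype : Subgroup G) : Set G)) := by
    rw [h3]
    exact relIndex_dvd_card _ _
  rw [← N.card_mul_index] at hG
  rcases hr.dvd_mul.1 hG with h5 | h5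
  · exact h5
  · exact absurd (h5.trans h4) h1

/-- passage to quotients -/
theorem PIso.quotient {p r : ℕ} [Fact p.Prime] (h : PIso p r G) (hr : r.Prime) (hrp : r ≠ p) (N : Subgroup G)
    [N.Normal] (hN : ¬ r ∣ Nat.card N) : PIso p r (G ⧸ N) := by
  intro Q hQ hQ1 hrQ
  set X := normalizer (Q : Set (G ⧸ N)) with hX
  set Y := X.comap (QuotientGroup.mk' N) with hY
  set H := Q.comap (QuotientGroup.mk' N) with hH
  have hHY : H ≤ Y := comap_mono le_normalizer
  have hcard : ∀ L : Subgroup (G ⧸ N), Nat.card (L.comap (QuotientGroup.mk' N)) = Nat.card N * Nat.card L := by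
    intro L
    have h1 := (L.comap (QuotientGroup.mk' N)).card_mul_index
    rw [index_comap_of_surjective L (QuotientGroup.mk'_surjective N), card_eq_card_quotient_mul_card_subgroup N,
      ← L.card_mul_index] at h1
    have h2 : L.index ≠ 0 := index_ne_zero_of_finite
    apply Nat.eq_of_mul_eq_mul_right (Nat.pos_of_ne_zero h2)
    rw [h1]
    ring
  have hnorm : (H.subgroupOf Y).Normal := by
    refine ⟨fun x hx y => ?_⟩
    rw [mem_subgroupOf] at hx ⊢
    have h2 := (mem_normalizer_iff.1 y.2 (QuotientGroup.mk' N x)).1 hx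
    rw [hH, mem_comap]
    rw [Subgroup.coe_mul, Subgroup.coe_mul, map_mul, map_mul]
    rw [← map_inv] at h2
    exact h2
  have h1 : r ∣ Nat.card Y := by
    rw [hcard]
    exact hrQ.mul_left _
  have hpQ : p ∣ Nat.card Q := by
    obtain ⟨n, hn⟩ := IsPGroup.iff_card.1 hQ
    rw [hn]
    refine dvd_pow_self p ?_
    rintro rfl
    rw [pow_zero] at hn
    exact hQ1 (eq_bot_of_card_eq _ hn)
  have h2 : r ∣ Nat.card (H.subgroupOf Y) := by
    refine (h.sub Y).dvd_normal hr h1 _ ?_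
    rw [Nat.card_congr (subgroupOfEquivOfLe hHY).toEquiv, hcard]
    exact hpQ.mul_left _
  rw [Nat.card_congr (subgroupOfEquivOfLe hHY).toEquiv, hcard] at h2
  rcases hr.dvd_mul.1 h2 with h5 | h5
  · exact hN h5
  · obtain ⟨n, hn⟩ := IsPGroup.iff_card.1 hQ
    rw [hn] at h5
    exact hrp ((Nat.prime_dvd_prime_iff_eq hr Fact.out).1 (hr.dvd_of_dvd_pow h5))

/-- **Coprime action**: an isolated prime does not divide the order of a normal `p'`-subgroup if there is a
non-cyclic abelian `p`-subgroup. -/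
theorem PIso.not_dvd_core {p r : ℕ} [Fact p.Prime] (h : PIso p r G) (hr : r.Prime) {A : Subgroup G}
    (hA : IsPGroup p A) (hab : IsMulCommutative A) (hcyc : ¬ IsCyclic A) (O : Subgroup G) [O.Normal]
    (hO : ¬ p ∣ Nat.card O) : ¬ r ∣ Nat.card O := by
  intro hrO
  have hrF : Fact r.Prime := ⟨hr⟩
  obtain ⟨S, ⟨T, hT⟩, hS⟩ := Cfsg.Agent.Lib.PGroupCoprimeAction.exists_invariant_sylow hA hO
    (fun b _ u hu => Normal.conj_mem inferInstance u hu b) r
  have hSO : S ≤ O := by
    rw [← hT]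
    exact map_subtype_le _
  have hS1 : S ≠ ⊥ := by
    rw [← hT, Ne, map_eq_bot_iff_of_injective _ O.subtype_injective]
    exact T.ne_bot_of_dvd_card hrO
  have hSr : IsPGroup r S := by
    rw [← hT]
    exact T.2.map _
  have hAS : A ≤ normalizer (S : Set G) := by
    intro a ha
    rw [mem_normalizer_iff]
    intro y
    refine ⟨fun hy => hS a ha y hy, fun hy => ?_⟩
    have := hS a⁻¹ (A.inv_mem ha) _ hy
    have e : a⁻¹ * (a * y * a⁻¹) * a⁻¹⁻¹ = y := by group
    rwa [e] at this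
  have hcop : (Nat.card A).Coprime (Nat.card S) := by
    obtain ⟨n, hn⟩ := IsPGroup.iff_card.1 hA
    rw [hn]
    refine Nat.Coprime.pow_left n ((Nat.Prime.coprime_iff_not_dvd Fact.out).2 fun hd => hO (hd.trans (card_dvd_of_le hSO)))
  have key := Cfsg.Agent.S0058.result A S hcyc hAS hcop
  have hex : ∃ a ∈ A, a ≠ 1 ∧ S ⊓ centralizer ({a} : Set G) ≠ ⊥ := by
    by_contra hno
    push Not at hno
    apply hS1
    rw [← key, eq_bot_iff]
    refine iSup₂_le fun a ha => ?_
    rw [hno a ha.1 ha.2]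
  obtain ⟨a, ha, ha1, hne⟩ := hex
  have hne' : r ∣ Nat.card (S ⊓ centralizer ({a} : Set G) : Subgroup G) := by
    have hg : IsPGroup r (S ⊓ centralizer ({a} : Set G) : Subgroup G) := hSr.to_le inf_le_left
    obtain ⟨n, hn⟩ := IsPGroup.iff_card.1 hg
    rw [hn]
    refine dvd_pow_self r ?_
    rintro rfl
    rw [pow_zero] at hn
    exact hne (eq_bot_of_card_eq _ hn)
  refine h.of_le (Q := zpowers a) (H := S ⊓ centralizer ({a} : Set G)) ?_ ?_ ?_ hne'
  · exact hA.to_le (by rwa [zpowers_le])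
  · rwa [Ne, zpowers_eq_bot]
  · rintro x ⟨-, hx⟩ _ ⟨j, rfl⟩
    have hc : Commute x a := (mem_centralizer_singleton_iff.1 hx)
    change x * a ^ j * x⁻¹ ∈ _
    rw [(hc.zpow_right j).eq, mul_inv_cancel_right]
    exact ⟨j, rfl⟩

/-- **The structure of groups with an isolated prime.** -/
theorem almost_simple {p r : ℕ} [Fact p.Prime] (h : PIso p r G) (hr : r.Prime) (hrp : r ≠ p)
    (hrG : r ∣ Nat.card G) {A : Subgroup G}
    (hA : IsPGroup p A) (hab : IsMulCommutative A) (hcyc : ¬ IsCyclic A) :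
    ∃ (O : Subgroup G) (_ : O.Normal), O = pPrimeCore p G ∧ ¬ p ∣ Nat.card O ∧
      ∃ S : Subgroup (G ⧸ O), S.Normal ∧ IsSimpleGroup S ∧ ¬ IsMulCommutative S ∧
        centralizer (S : Set (G ⧸ O)) = ⊥ ∧ p ∣ Nat.card S ∧
        ∀ s : ℕ, s.Prime → s ≠ p → PIso p s G → s ∣ Nat.card G →
          ¬ s ∣ Nat.card O ∧ s ∣ Nat.card S ∧ PIso p s (G ⧸ O) := by
  have hp : p.Prime := Fact.out
  obtain ⟨O, hOn, hOdef⟩ : ∃ (O : Subgroup G) (_ : O.Normal), O = pPrimeCore p G := ⟨_, pPrimeCore_normal p, rfl⟩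
  have hOp : ¬ p ∣ Nat.card O := by
    intro hd
    have h1 := pPrimeCore_coprime (G := G) p
    rw [← hOdef] at h1
    exact hp.one_lt.ne' (Nat.dvd_one.1 (h1.gcd_eq_one ▸ Nat.dvd_gcd hd dvd_rfl))
  have hcore : pPrimeCore p (G ⧸ O) = ⊥ := by
    subst hOdef
    exact pPrimeCore_quotient_pPrimeCore p
  have hiso : ∀ s : ℕ, s.Prime → s ≠ p → PIso p s G → ¬ s ∣ Nat.card O ∧ PIso p s (G ⧸ O) := by
    intro s hs hsp hI
    have h1 := hI.not_dvd_core hs hA hab hcyc O hOp
    exact ⟨h1, hI.quotient hs hsp O h1⟩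
  have hcardG : Nat.card G = Nat.card (G ⧸ O) * Nat.card O := card_eq_card_quotient_mul_card_subgroup O
  have hdvdQ : ∀ s : ℕ, s.Prime → ¬ s ∣ Nat.card O → s ∣ Nat.card G → s ∣ Nat.card (G ⧸ O) := by
    intro s hs h1 h2
    rw [hcardG] at h2
    exact (hs.dvd_mul.1 h2).resolve_right h1
  have hA1 : A ≠ ⊥ := by
    rintro rfl
    exact hcyc inferInstance
  have hpG : p ∣ Nat.card G := by
    obtain ⟨n, hn⟩ := IsPGroup.iff_card.1 hA
    refine dvd_trans ?_ (card_subgroup_dvd_card A)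
    rw [hn]
    refine dvd_pow_self p ?_
    rintro rfl
    rw [pow_zero] at hn
    exact hA1 (eq_bot_of_card_eq _ hn)
  have hpQ := hdvdQ p hp hOp hpG
  -- normal subgroups of the quotient
  have hnorm : ∀ N : Subgroup (G ⧸ O), N.Normal → N ≠ ⊥ → p ∣ Nat.card N := by
    intro N hN hN1
    by_contra hd
    apply hN1
    rw [eq_bot_iff, ← hcore]
    exact le_pPrimeCore hN ((Nat.Prime.coprime_iff_not_dvd hp).2 hd).symm
  have hnt : Nontrivial (G ⧸ O) := by
    rw [← Finite.one_lt_card_iff_nontrivial]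
    exact lt_of_lt_of_le hp.one_lt (Nat.le_of_dvd Nat.card_pos hpQ)
  obtain ⟨N, hNn, hN1, hmin⟩ := Cfsg.Agent.Lib.SubnormalJoin.exists_minimal_normal (G ⧸ O)
  have hpN := hnorm N hNn hN1
  obtain ⟨hrO, hrI⟩ := hiso r hr hrp h
  have hrN := hrI.dvd_normal hr (hdvdQ r hr hrO hrG) N hpN
  obtain ⟨T, m, hTN, hTs, hm, ⟨e⟩⟩ := Cfsg.Agent.Lib.MinNormal.exists_mulEquiv_pi N hN1 hmin
  have hcN : Nat.card N = Nat.card T ^ m := by
    rw [Nat.card_congr e.toEquiv, Nat.card_fun, Nat.card_eq_fintype_card (α := Fin m), Fintype.card_fin]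
  have hpT : p ∣ Nat.card T := hp.dvd_of_dvd_pow (hcN ▸ hpN)
  have hrT : r ∣ Nat.card T := hr.dvd_of_dvd_pow (hcN ▸ hrN)
  have hrF : Fact r.Prime := ⟨hr⟩
  obtain ⟨x, hx⟩ := exists_prime_orderOf_dvd_card' p hpT
  obtain ⟨y, hy⟩ := exists_prime_orderOf_dvd_card' r hrT
  have hm1 : m = 1 := by
    by_contra hm1
    have h2 : PIso p r (Fin m → T) := (hrI.sub N).congr e
    let i : Fin m := ⟨0, by omega⟩
    let j : Fin m := ⟨1, by omega⟩
    have hij : i ≠ j := by
      intro h0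
      have := congrArg Fin.val h0
      simp [i, j] at this
    have hinj : ∀ k : Fin m, Function.Injective (MonoidHom.mulSingle (fun _ : Fin m => ↥T) k) :=
      fun k => Pi.mulSingle_injective (M := fun _ : Fin m => ↥T) k
    refine h2.not_commute hp (x := MonoidHom.mulSingle (fun _ : Fin m => ↥T) i x)
      (y := MonoidHom.mulSingle (fun _ : Fin m => ↥T) j y) ?_ ?_ ?_
    · rw [← hx]
      exact orderOf_injective _ (hinj i) x
    · rw [← hy]
      exact orderOf_injective _ (hinj j) y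
    · exact Pi.mulSingle_commute (f := fun _ : Fin m => ↥T) hij x y
  subst hm1
  have e' : N ≃* T := e.trans (MulEquiv.funUnique (Fin 1) T)
  have hNs : IsSimpleGroup N := by
    have := hTs
    exact e'.isSimpleGroup
  have hTna : ¬ IsMulCommutative T := by
    intro hc
    exact ((hrI.sub T).not_commute hp hx hy (hc.is_comm.comm x y))
  refine ⟨O, hOn, hOdef, hOp, N, hNn, hNs, ?_, ?_, hpN, ?_⟩
  · intro hc
    apply hTna
    refine ⟨⟨fun a b => ?_⟩⟩
    apply e'.symm.injective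
    rw [map_mul, map_mul]
    exact hc.is_comm.comm _ _
  · by_contra hC
    have hpC := hnorm (centralizer (N : Set (G ⧸ O))) inferInstance hC
    obtain ⟨a, ha⟩ := exists_prime_orderOf_dvd_card' p hpC
    obtain ⟨b, hb⟩ := exists_prime_orderOf_dvd_card' r hrN
    refine hrI.not_commute hp (x := (a : G ⧸ O)) (y := (b : G ⧸ O)) ?_ ?_ ?_
    · rw [Subgroup.orderOf_coe, ha]
    · rw [Subgroup.orderOf_coe, hb]
    · exact (mem_centralizer_iff.1 a.2 b b.2).symm
  · intro s hs hsp hI hsG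
    obtain ⟨h1, h2⟩ := hiso s hs hsp hI
    exact ⟨h1, h2.dvd_normal hs (hdvdQ s hs h1 hsG) N hpN, h2⟩

end Cfsg.Agent.H325.Loc
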