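import Cfsg.Agent.H325.LocStruct
import Cfsg.Agent.H187.TwF4SQ
import Cfsg.Agent.H248.RowTwF4
import Cfsg.Agent.S1072

/-!
# Isolated primes of `²F₄(q)`

`piso_twF4`: the primes `u` with `2` of order `12 (2 m + 1)` modulo `u`.
-/

set_option autoImplicit false
set_option linter.unusedSectionVars false

namespace Cfsg.Agent.H325.IsoTwF4

open Cfsg Cfsg.Lie Cfsg.Agent.Nodes.Reps Cfsg.Agent.H187 Cfsg.Agent.H325.Loc
open Subgroup (normalizer)

section

variable {F : Type} [Field F] [Fintype F] {m : ℕ} (hm : 1 ≤ m) (hK : Fintype.card F = 2 ^ (2 * m + 1))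

include hm hK

theorem card_eq : Nat.card ↥(twistedF4 F (2 ^ m)) =
    2 ^ (12 * (2 * m + 1)) * ((2 ^ (2 * m + 1) - 1) * ((2 ^ (2 * m + 1)) ^ 3 + 1) *
        ((2 ^ (2 * m + 1)) ^ 4 - 1) * ((2 ^ (2 * m + 1)) ^ 6 + 1)) := by
  rw [S1068.result hK, ← pow_mul, mul_comm 12]
  ring

theorem not_two_dvd : ¬ 2 ∣ ((2 ^ (2 * m + 1) - 1) * ((2 ^ (2 * m + 1)) ^ 3 + 1) *
        ((2 ^ (2 * m + 1)) ^ 4 - 1) * ((2 ^ (2 * m + 1)) ^ 6 + 1)) := by
  have hq : 2 ∣ 2 ^ (2 * m + 1) := dvd_pow_self 2 (by omega)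
  have hq1 : 1 ≤ 2 ^ (2 * m + 1) := Nat.one_le_two_pow
  have a3 : 2 ∣ (2 ^ (2 * m + 1)) ^ 3 := dvd_pow hq (by norm_num)
  have a4 : 2 ∣ (2 ^ (2 * m + 1)) ^ 4 := dvd_pow hq (by norm_num)
  have a6 : 2 ∣ (2 ^ (2 * m + 1)) ^ 6 := dvd_pow hq (by norm_num)
  have b4 : 1 ≤ (2 ^ (2 * m + 1)) ^ 4 := Nat.one_le_pow _ _ (by omega)
  rw [Nat.prime_two.dvd_mul, Nat.prime_two.dvd_mul, Nat.prime_two.dvd_mul]
  omega

/-- proper subgroups of index not divisible by 4 have order prime to `u` -/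
theorem not_dvd_of_index {u : ℕ} (hu : H436.Prim 2 (12 * (2 * m + 1)) u)
    (M : Subgroup ↥(twistedF4 F (2 ^ m))) (hM : M ≠ ⊤) (hidx : ¬ 2 ^ 2 ∣ M.index) : ¬ u ∣ Nat.card M := by
  intro hdvd
  obtain ⟨φ, hφ⟩ := Cfsg.Agent.ChevalleyStructure.TwF4.TwistedFix.exists_rln hK
  have := Cfsg.Agent.ChevalleyStructure.TwF4.Twisted.charP_two hK
  have hF : ∃ c : Fˣ, c ≠ 1 := by
    have h1 : 1 < Nat.card Fˣ := by
      rw [Nat.card_units, Nat.card_eq_fintype_card, hK]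
      have : 2 ^ 3 ≤ 2 ^ (2 * m + 1) := Nat.pow_le_pow_right (by norm_num) (by omega)
      omega
    have h2 : Nontrivial Fˣ := Finite.one_lt_card_iff_nontrivial.1 h1
    exact exists_ne 1
  let S := Cfsg.Agent.KFacts.TwF4.Inst.full hK hφ
  have hR : S.R.p = 2 := rfl
  obtain ⟨g, hg⟩ := TwF4Par.exists_conj_le_norm (S := S) hF hR hM hidx
  have hcard : Nat.card ↥(cj g M) = Nat.card M :=
    Nat.card_congr (M.equivMapOfInjective (MulAut.conj g).toMonoidHom (MulAut.conj g).injective).toEquiv.symm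
  rw [← hcard] at hdvd
  rcases hg with hg | hg
  · obtain ⟨a, ha, hVa⟩ := TwF4Par.card_lt (card_eq hm hK) (not_two_dvd hm hK) hR (TwF4Par.J28_lt (S := S))
    exact not_dvd_card_normalizer hu hVa ha (TwF4Par.cent28 hR) (hdvd.trans (Subgroup.card_dvd_of_le hg))
  · obtain ⟨a, ha, hVa⟩ := TwF4Par.card_lt (card_eq hm hK) (not_two_dvd hm hK) hR (TwF4Par.J17_lt (S := S))
    exact not_dvd_card_normalizer hu hVa ha (TwF4Par.cent17 hR) (hdvd.trans (Subgroup.card_dvd_of_le hg))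

/-- an element of order `u` centralises every 2-subgroup it normalises -/
theorem centralises {u : ℕ} (hu : H436.Prim 2 (12 * (2 * m + 1)) u) {x : ↥(twistedF4 F (2 ^ m))}
    (hx : orderOf x = u) {Q : Subgroup ↥(twistedF4 F (2 ^ m))} (hQ : IsPGroup 2 Q)
    (hxQ : x ∈ normalizer (Q : Set ↥(twistedF4 F (2 ^ m)))) :
    x ∈ Subgroup.centralizer (Q : Set ↥(twistedF4 F (2 ^ m))) := by
  have hfact : Fact (Nat.Prime 2) := ⟨Nat.prime_two⟩
  have hu2 : u ≠ 2 := fun h => hu.not_dvd (by rw [h])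
  obtain ⟨a, ha⟩ := hQ.exists_card_eq
  have hle : 2 ^ a ∣ 2 ^ (12 * (2 * m + 1)) := by
    have h1 := Subgroup.card_subgroup_dvd_card Q
    rw [ha, card_eq hm hK] at h1
    have h4 : Nat.Coprime (2 ^ a) ((2 ^ (2 * m + 1) - 1) * ((2 ^ (2 * m + 1)) ^ 3 + 1) *
        ((2 ^ (2 * m + 1)) ^ 4 - 1) * ((2 ^ (2 * m + 1)) ^ 6 + 1)) :=
      ((Nat.Prime.coprime_iff_not_dvd Nat.prime_two).2 (not_two_dvd hm hK)).pow_left a
    exact h4.dvd_of_dvd_mul_right h1
  have hae : a ≤ 12 * (2 * m + 1) := (Nat.pow_dvd_pow_iff_le_right (by norm_num)).1 hle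
  have hs := Cfsg.Agent.S1072.result hm hK
  have hs1 := hs.1
  rcases Nat.lt_or_eq_of_le hae with hlt | heq
  · have h1 : Q.normalizerMonoidHom ⟨x, hxQ⟩ = 1 := by
      refine aut_eq_one Nat.prime_two hu.prime hu2 ha (fun k h1 h2 h3 => ?_) _ ?_
      · have := Nat.le_of_dvd (by omega) ((hu.dvd_iff k).1 h3)
        omega
      · rw [← map_pow]
        have : (⟨x, hxQ⟩ : normalizer (Q : Set ↥(twistedF4 F (2 ^ m)))) ^ u = 1 :=
          Subtype.ext (by rw [← hx]; exact pow_orderOf_eq_one x)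
        rw [this, map_one]
    have h3 : (⟨x, hxQ⟩ : normalizer (Q : Set ↥(twistedF4 F (2 ^ m)))) ∈ Q.normalizerMonoidHom.ker := h1
    rw [Subgroup.normalizerMonoidHom_ker] at h3
    exact h3
  · exfalso
    have hidx : ¬ 2 ∣ (normalizer (Q : Set ↥(twistedF4 F (2 ^ m)))).index := by
      intro h1
      have h2 : 2 ∣ Q.index := h1.trans (Subgroup.index_dvd_of_le Subgroup.le_normalizer)
      have h3 := Q.card_mul_index
      rw [ha, heq, card_eq hm hK] at h3
      have h5 := Nat.eq_of_mul_eq_mul_left (by positivity) h3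
      exact not_two_dvd hm hK (h5 ▸ h2)
    have htop : normalizer (Q : Set ↥(twistedF4 F (2 ^ m))) ≠ ⊤ := by
      intro h0
      have hQn : Q.Normal := Subgroup.normalizer_eq_top_iff.1 h0
      rcases hQn.eq_bot_or_eq_top with h1 | h1
      · rw [h1, Subgroup.card_bot, heq] at ha
        have : 1 < 2 ^ (12 * (2 * m + 1)) := Nat.one_lt_two_pow (by omega)
        omega
      · rw [h1, Subgroup.card_top, heq, card_eq hm hK] at ha
        have h5 := Nat.eq_of_mul_eq_mul_left (by positivity) (ha.trans (mul_one _).symm)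
        have h6 : 2 ≤ ((2 ^ (2 * m + 1)) ^ 6 + 1) := by
          have : 1 ≤ (2 ^ (2 * m + 1)) ^ 6 := Nat.one_le_pow _ _ (by positivity)
          omega
        have h7 := Nat.le_of_dvd one_pos (Dvd.intro_left _ h5)
        omega
    refine not_dvd_of_index hm hK hu _ htop (fun h => hidx (dvd_trans (by norm_num) h)) ?_
    rw [← hx]
    have := orderOf_dvd_natCard (⟨x, hxQ⟩ : normalizer (Q : Set ↥(twistedF4 F (2 ^ m))))
    rwa [← Subgroup.orderOf_coe] at this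

/-- **The isolated primes of `²F₄(q)`.** -/
theorem piso_twF4 {u : ℕ} (hu : H436.Prim 2 (12 * (2 * m + 1)) u) : PIso 2 u ↥(twistedF4 F (2 ^ m)) := by
  intro Q hQ hQ1 hd
  have hfact : Fact (Nat.Prime 2) := ⟨Nat.prime_two⟩
  have hfu : Fact u.Prime := ⟨hu.prime⟩
  have hu2 : u ≠ 2 := fun h => hu.not_dvd (by rw [h])
  have hs := Cfsg.Agent.S1072.result hm hK
  have hs1 := hs.1
  obtain ⟨x, hx⟩ := exists_prime_orderOf_dvd_card' u hd
  have hx' : orderOf (x : ↥(twistedF4 F (2 ^ m))) = u := by rw [Subgroup.orderOf_coe, hx]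
  have hc := centralises hm hK hu hx' hQ x.2
  obtain ⟨t, ht⟩ : ∃ t : Q, orderOf t = 2 := by
    refine exists_prime_orderOf_dvd_card' 2 ?_
    obtain ⟨n, hn⟩ := hQ.exists_card_eq
    rw [hn]
    refine dvd_pow_self 2 ?_
    rintro rfl
    rw [pow_zero] at hn
    exact hQ1 (Subgroup.eq_bot_of_card_eq _ hn)
  let A : Subgroup (MulAut ↥(twistedF4 F (2 ^ m))) := Subgroup.zpowers (MulAut.conj (x : ↥(twistedF4 F (2 ^ m))))
  have hA : IsPGroup u A := by
    rintro ⟨_, i, rfl⟩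
    refine ⟨1, Subtype.ext ?_⟩
    change (MulAut.conj (x : ↥(twistedF4 F (2 ^ m))) ^ i) ^ u ^ 1 = 1
    rw [pow_one, ← zpow_natCast, zpow_comm, zpow_natCast, ← map_pow, ← hx', pow_orderOf_eq_one, map_one, one_zpow]
  obtain ⟨V, W, hV, hW, hVA, hWA, hVW⟩ := H248.RowTwF4.exists_pair (X := ↥(twistedF4 F (2 ^ m)))
    ⟨F, inferInstance, inferInstance, m, hm, hK, ⟨MulEquiv.refl _⟩⟩ (p := u) hu2 hA (t := (t : ↥(twistedF4 F (2 ^ m))))
    (by rw [Subgroup.orderOf_coe, ht]) (by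
      have hxt : MulAut.conj (x : ↥(twistedF4 F (2 ^ m))) ∈ MulAction.stabilizer (MulAut ↥(twistedF4 F (2 ^ m)))
          (t : ↥(twistedF4 F (2 ^ m))) := by
        rw [MulAction.mem_stabilizer_iff, MulAut.smul_def, MulAut.conj_apply,
          ← Subgroup.mem_centralizer_iff.1 hc t t.2, mul_inv_cancel_right]
      intro α hα
      exact (Subgroup.zpowers_le.2 hxt) hα)
  have hmem : ∀ V : Subgroup ↥(twistedF4 F (2 ^ m)), IsPGroup 2 V → (∀ α ∈ A, V.map α.toMonoidHom = V) →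
      V ≤ Subgroup.centralizer {(x : ↥(twistedF4 F (2 ^ m)))} := by
    intro V hV hVA
    have h1 : (x : ↥(twistedF4 F (2 ^ m))) ∈ normalizer (V : Set ↥(twistedF4 F (2 ^ m))) := by
      have h0 := hVA _ (Subgroup.mem_zpowers _)
      rw [Subgroup.mem_normalizer_iff]
      intro y
      constructor
      · intro hy
        rw [← h0]
        exact ⟨y, hy, rfl⟩
      · intro hy
        rw [← h0] at hy
        obtain ⟨z, hz, hzy⟩ := hy
        have : z = y := (MulAut.conj (x : ↥(twistedF4 F (2 ^ m)))).injective hzy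
        rwa [← this]
    have h2 := centralises hm hK hu hx' hV h1
    intro v hv
    rw [Subgroup.mem_centralizer_singleton_iff]
    exact (Subgroup.mem_centralizer_iff.1 h2 v hv)
  have htop : (x : ↥(twistedF4 F (2 ^ m))) ∈ Subgroup.center ↥(twistedF4 F (2 ^ m)) := by
    have h3 : (⊤ : Subgroup ↥(twistedF4 F (2 ^ m))) ≤ Subgroup.centralizer {(x : ↥(twistedF4 F (2 ^ m)))} := by
      rw [← hVW]
      exact sup_le (hmem V hV hVA) (hmem W hW hWA)
    rw [Subgroup.mem_center_iff]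
    intro g
    exact (Subgroup.mem_centralizer_singleton_iff.1 (h3 (Subgroup.mem_top g)))
  rcases (inferInstance : (Subgroup.center ↥(twistedF4 F (2 ^ m))).Normal).eq_bot_or_eq_top with h3 | h3
  · rw [h3, Subgroup.mem_bot] at htop
    rw [htop, orderOf_one] at hx'
    exact hu.prime.one_lt.ne hx'
  · apply hs.2
    refine ⟨⟨fun a b => ?_⟩⟩
    have : a ∈ Subgroup.center ↥(twistedF4 F (2 ^ m)) := by rw [h3]; trivial
    exact ((Subgroup.mem_center_iff.1 this) b).symm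

end

end Cfsg.Agent.H325.IsoTwF4
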