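import Mathlib
import Cfsg.Agent.FixBN.LOAll
import Cfsg.Agent.FixBN.FixSplit
import Cfsg.Agent.FixBN.OutSplit
import Cfsg.Agent.PLocal.PConstrained
import Cfsg.Agent.SignalizersComponents.QuasisimpleQuotient
import Cfsg.Agent.SignalizersComponents.PConstrained
import Cfsg.Agent.Lib.PComponents
import Cfsg.Agent.CpAut.Fix
import Cfsg.Agent.SignalizersComponents.Components

/-!
# 2-constrained fixed point groups in odd characteristic are solvable (helper325)

* `solvable_of_central`: a 2-constrained finite group whose perfect normal subgroups centralise the normal subgroups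
  of odd order and the normal 2-subgroups is solvable.
* `solvable_fixSub`: `K` of Lie type of odd characteristic (not a Ree group), `τ² = 1`: if `C_K(τ)` is 2-constrained,
  then it is solvable.
-/

set_option autoImplicit false

namespace Cfsg.Agent.H325.Con

open Subgroup Cfsg

universe u

/-- A nonsolvable finite group has a nontrivial perfect normal subgroup. -/
theorem exists_perfect {C : Type*} [Group C] [Finite C] (h : ¬ Group.IsSolvable C) :
    ∃ L : Subgroup C, L.Normal ∧ ⁅L, L⁆ = L ∧ L ≠ ⊥ := by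
  obtain ⟨n, hn⟩ := WellFoundedLT.antitone_chain_condition (derivedSeries_antitone C)
  refine ⟨derivedSeries C n, derivedSeries_normal C n, ?_, ?_⟩
  · have := hn (n + 1) (Nat.le_succ n)
    rw [derivedSeries_succ] at this
    exact this.symm
  · intro h0
    exact h ⟨⟨n, h0⟩⟩

/-- **A 2-constrained group all of whose perfect normal subgroups centralise the normal subgroups of odd order and the
normal 2-subgroups is solvable.** -/
theorem solvable_of_central {C : Type*} [Group C] [Finite C] (hcon : IsPConstrained 2 C)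
    (h1 : ∀ L W : Subgroup C, L.Normal → ⁅L, L⁆ = L → W.Normal → Odd (Nat.card W) → ∀ l ∈ L, ∀ w ∈ W, l * w = w * l)
    (h2 : ∀ L X : Subgroup C, L.Normal → ⁅L, L⁆ = L → X.Normal → IsPGroup 2 X → ∀ l ∈ L, ∀ x ∈ X, l * x = x * l) :
    Group.IsSolvable C := by
  classical
  by_contra hns
  obtain ⟨L, hLn, hLL, hL1⟩ := exists_perfect hns
  have : Fact (Nat.Prime 2) := ⟨Nat.prime_two⟩
  have hWn : (pPrimeCore 2 C).Normal := Lib.Cores.pPrimeCore_normal 2
  have hMn : (pPrimePCore 2 C).Normal := by
    unfold pPrimePCore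
    have : (pCore 2 (C ⧸ pPrimeCore 2 C)).Normal := Lib.Cores.pCore_normal 2
    infer_instance
  set W := pPrimeCore 2 C with hW
  set M := pPrimePCore 2 C with hM
  have hWodd : Odd (Nat.card W) := by
    have := PLocal.PConstrained.coprime_card_pPrimeCore 2 C
    rw [Nat.coprime_two_right] at this
    exact this
  have hLW : ∀ l ∈ L, ∀ w ∈ W, l * w = w * l := h1 L W hLn hLL hWn hWodd
  -- powers
  have hpow : ∀ m ∈ M, ∃ k : ℕ, m ^ 2 ^ k ∈ W := by
    intro m hm
    have hp : IsPGroup 2 (pCore 2 (C ⧸ pPrimeCore 2 C)) := PLocal.PConstrained.isPGroup_pCore 2 _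
    obtain ⟨k, hk⟩ := hp ⟨QuotientGroup.mk' (pPrimeCore 2 C) m, hm⟩
    refine ⟨k, ?_⟩
    have := congrArg Subtype.val hk
    simp only [SubmonoidClass.coe_pow, OneMemClass.coe_one] at this
    rw [← map_pow] at this
    exact (QuotientGroup.eq_one_iff _).1 this
  have hRn : (L ⊓ M).Normal := inferInstance
  set R := L ⊓ M with hR
  -- the elements of `R` of `2`-power order
  have hnil : Group.IsNilpotent ↥R := by
    have hk : (QuotientGroup.mk' (W.subgroupOf R)).ker ≤ center ↥R := by
      rw [QuotientGroup.ker_mk']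
      intro r hr
      rw [mem_center_iff]
      intro s
      apply Subtype.ext
      exact hLW s s.2.1 r hr
    have : Group.IsNilpotent (↥R ⧸ W.subgroupOf R) := by
      apply IsPGroup.isNilpotent (p := 2)
      intro q
      obtain ⟨r, rfl⟩ := QuotientGroup.mk_surjective q
      obtain ⟨k, hk⟩ := hpow r r.2.2
      refine ⟨k, ?_⟩
      rw [← QuotientGroup.mk_pow, QuotientGroup.eq_one_iff]
      exact hk
    exact Subgroup.isNilpotent_of_ker_le_center _ hk
  obtain ⟨P⟩ : Nonempty (Sylow 2 ↥R) := inferInstance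
  have hPn : (P : Subgroup ↥R).Normal := by
    have h := (Group.isNilpotent_of_finite_tfae (G := ↥R)).out 0 3
    exact h.1 hnil 2 inferInstance P
  have hPc : (P : Subgroup ↥R).Characteristic := P.characteristic_of_normal hPn
  have hXn : ((P : Subgroup ↥R).map R.subtype).Normal := ConjAct.normal_of_characteristic_of_normal
  have hX2 : IsPGroup 2 ((P : Subgroup ↥R).map R.subtype) := P.2.map _
  have hLX := h2 L _ hLn hLL hXn hX2
  -- `R = (R ⊓ W) P`
  have hRP : ∀ r ∈ R, ∃ w ∈ R ⊓ W, ∃ x ∈ (P : Subgroup ↥R).map R.subtype, r = w * x := by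
    intro r hr
    have hsup : W.subgroupOf R ⊔ (P : Subgroup ↥R) = ⊤ := by
      have hdvd : ∀ q : ℕ, q.Prime → ¬ q ∣ (W.subgroupOf R ⊔ (P : Subgroup ↥R)).index := by
        intro q hq hqd
        by_cases hq2 : q = 2
        · subst hq2
          have h3 := dvd_trans hqd (Subgroup.index_dvd_of_le (le_sup_right : (P : Subgroup ↥R) ≤ W.subgroupOf R ⊔ P))
          exact P.not_dvd_index h3
        · have h3 := dvd_trans hqd (Subgroup.index_dvd_of_le (le_sup_left : W.subgroupOf R ≤ W.subgroupOf R ⊔ P))
          have h4 : IsPGroup 2 (↥R ⧸ W.subgroupOf R) := by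
            intro y
            obtain ⟨r, rfl⟩ := QuotientGroup.mk_surjective y
            obtain ⟨k, hk⟩ := hpow r r.2.2
            refine ⟨k, ?_⟩
            rw [← QuotientGroup.mk_pow, QuotientGroup.eq_one_iff]
            exact hk
          obtain ⟨n, hn⟩ := IsPGroup.iff_card.1 h4
          rw [Subgroup.index_eq_card, hn] at h3
          exact hq2 ((Nat.prime_dvd_prime_iff_eq hq Nat.prime_two).1 (hq.dvd_of_dvd_pow h3))
      rw [← Subgroup.index_eq_one]
      by_contra h
      obtain ⟨q, hq, hqd⟩ := Nat.exists_prime_and_dvd h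
      exact hdvd q hq hqd
    have hmem : (⟨r, hr⟩ : ↥R) ∈ W.subgroupOf R ⊔ (P : Subgroup ↥R) := hsup ▸ mem_top _
    obtain ⟨w, hw, x, hx, h⟩ := Subgroup.mem_sup_of_normal_left.1 hmem
    refine ⟨w, ⟨w.2, hw⟩, x, ⟨x, hx, rfl⟩, ?_⟩
    exact (congrArg Subtype.val h).symm
  have hLR : ∀ l ∈ L, ∀ r ∈ R, l * r = r * l := by
    intro l hl r hr
    obtain ⟨w, hw, x, hx, rfl⟩ := hRP r hr
    rw [← mul_assoc, hLW l hl w hw.2, mul_assoc, hLX l hl x hx, mul_assoc]
  have hLM : ∀ l ∈ L, ∀ m ∈ M, l * m = m * l := by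
    have h3 : ⁅⁅M, L⁆, L⁆ = ⊥ := by
      rw [Subgroup.commutator_eq_bot_iff_le_centralizer]
      intro x hx
      rw [mem_centralizer_iff]
      intro l hl
      exact hLR l hl x (Subgroup.commutator_le_inf L M (by rwa [Subgroup.commutator_comm] at hx))
    have h4 := FixBN.comm_of_perfect hLL h3
    rw [Subgroup.commutator_eq_bot_iff_le_centralizer] at h4
    intro l hl m hm
    exact (mem_centralizer_iff.1 (h4 hl) m hm).symm
  -- the end
  obtain ⟨Q⟩ : Nonempty (Sylow 2 ↥M) := inferInstance
  have hLMle : L ≤ M := by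
    refine le_trans ?_ (hcon Q)
    intro l hl
    rw [mem_centralizer_iff]
    rintro m ⟨m', hm', rfl⟩
    exact (hLM l hl m' m'.2).symm
  apply hL1
  rw [← hLL, Subgroup.commutator_eq_bot_iff_le_centralizer]
  intro l hl
  rw [mem_centralizer_iff]
  intro m hm
  exact (hLM l hl m (hLMle hm)).symm

/-- **`C_K(τ)` 2-constrained implies solvable**, `K` with a good split (B,N)-pair of odd characteristic. -/
theorem solvable_fixSub {K : Type*} [Group K] [Finite K] {p : ℕ} [hp : Fact p.Prime] (hp2 : p ≠ 2)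
    (h : FixBN.HasGoodSplit p K) (τ : K ≃* K) (hτ : ∀ g, τ (τ g) = g)
    (hcon : IsPConstrained 2 ↥(FixBN.Reduce.fixSub τ)) : Group.IsSolvable ↥(FixBN.Reduce.fixSub τ) := by
  have hlo := h.loAut hp2
  obtain ⟨P, U, hne, hg⟩ := h
  set C := FixBN.Reduce.fixSub τ with hC
  have hnn : ∀ W : Subgroup ↥C, W.Normal → ∀ g ∈ C, ∀ x ∈ W.map C.subtype, g * x * g⁻¹ ∈ W.map C.subtype := by
    rintro W hW g hg _ ⟨x, hx, rfl⟩
    exact ⟨⟨g, hg⟩ * x * ⟨g, hg⟩⁻¹, hW.conj_mem x hx _, rfl⟩
  have hle : ∀ W : Subgroup ↥C, W.map C.subtype ≤ C := fun W => by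
    rintro _ ⟨x, _, rfl⟩
    exact x.2
  have hperf : ∀ L : Subgroup ↥C, ⁅L, L⁆ = L → ⁅L.map C.subtype, L.map C.subtype⁆ = L.map C.subtype := by
    intro L hL
    rw [← Subgroup.map_commutator, hL]
  refine solvable_of_central hcon ?_ ?_
  · intro L W hLn hLL hWn hWo l hl w hw
    have hfix := FixBN.fix_of_split hp2 hg.toSplit τ hτ (X := W.map C.subtype)
      (fun x hx => FixBN.Reduce.mem_fixSub.1 (hle W hx)) (fun g hg x hx => hnn W hWn g (FixBN.Reduce.mem_fixSub.2 hg) x hx)
      (by rwa [Subgroup.card_map_of_injective C.subtype_injective])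
    have hout := hg.out hp2 τ hτ (hle L) (hperf L hLL) ⟨l, hl, rfl⟩
    have hcl : Lib.PComponents.pElem p C ≤ Subgroup.centralizer ({(w : K)} : Set K) := by
      unfold Lib.PComponents.pElem
      rw [Subgroup.closure_le]
      rintro y ⟨hy, n, hn⟩
      rw [SetLike.mem_coe, mem_centralizer_singleton_iff]
      exact hfix.2 y (FixBN.Reduce.mem_fixSub.1 hy) ⟨n, hn⟩ w ⟨w, hw, rfl⟩
    have := mem_centralizer_singleton_iff.1 (hcl hout)
    exact Subtype.ext this
  · intro L X hLn hLL hXn hX2 l hl x hx
    have := hlo τ hτ (X.map C.subtype) (L.map C.subtype) (hle X) (hnn X hXn) (hX2.map _) (hle L) (hperf L hLL)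
      l ⟨l, hl, rfl⟩ x ⟨x, hx, rfl⟩
    exact Subtype.ext this

/-- No involution centralizer of `G` is 2-constrained and nonsolvable. -/
def NC (G : Type*) [Group G] : Prop :=
  ∀ t : G, orderOf t = 2 → IsPConstrained 2 ↥(centralizer ({t} : Set G)) →
    Group.IsSolvable ↥(centralizer ({t} : Set G))

/-- The centralizers of corresponding elements. -/
noncomputable def centEquiv {G H : Type*} [Group G] [Group H] (e : G ≃* H) (t : G) :
    ↥(centralizer ({t} : Set G)) ≃* ↥(centralizer ({e t} : Set H)) :=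
  (e.subgroupMap _).trans (MulEquiv.subgroupCongr (by
    ext y
    simp only [Subgroup.mem_map, mem_centralizer_singleton_iff]
    constructor
    · rintro ⟨x, hx, rfl⟩
      simpa using congrArg e hx
    · intro hy
      refine ⟨e.symm y, ?_, by simp⟩
      apply e.injective
      simpa using hy))

theorem solvable_congr {G H : Type*} [Group G] [Group H] (e : G ≃* H) (h : Group.IsSolvable H) :
    Group.IsSolvable G :=
  Group.isSolvable_of_isSolvable_injective (f := e.toMonoidHom) e.injective

theorem NC.congr {G H : Type*} [Group G] [Group H] [Finite G] (e : G ≃* H) (h : NC H) : NC G := by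
  intro t ht hc
  have : Fact (Nat.Prime 2) := ⟨Nat.prime_two⟩
  have ht' : orderOf (e t) = 2 := by rw [← ht]; exact orderOf_injective e.toMonoidHom e.injective t
  exact solvable_congr (centEquiv e t)
    (h (e t) ht' ((PLocal.PConstrained.isPConstrained_congr (centEquiv e t)).1 hc))

/-- A group with a component not of odd order is not 2-constrained. -/
theorem not_constrained_of_component {C : Type*} [Group C] [Finite C] {K : Subgroup C} (hK : IsComponent K)
    (h2 : Even (Nat.card K)) : ¬ IsPConstrained 2 C := by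
  intro hc
  have : Fact (Nat.Prime 2) := ⟨Nat.prime_two⟩
  have hn : (pPrimeCore 2 C).Normal := Lib.Cores.pPrimeCore_normal 2
  have hnle : ¬ K ≤ pPrimeCore 2 C := by
    intro hle
    have h3 := PLocal.PConstrained.coprime_card_pPrimeCore 2 C
    rw [Nat.coprime_two_right] at h3
    exact (Nat.not_even_iff_odd.2 h3) (h2.trans_dvd (Subgroup.card_dvd_of_le hle))
  have h4 := SignalizersComponents.QuasisimpleQuotient.isComponent_map_mk' hK hnle
  obtain ⟨L, hL, hL2⟩ := Lib.PComponents.exists_pcomp h4
  have h5 := (SignalizersComponents.PConstrained.isPConstrained_iff_pLayer_eq_bot 2).1 hc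
  have h6 : L ≤ pLayer 2 C := le_sSup hL
  rw [h5, le_bot_iff] at h6
  have h7 := hL.2.1
  rw [h6, Subgroup.map_bot] at h7
  obtain ⟨_, _, h8⟩ := h7
  obtain ⟨a, b, hab⟩ := h8.exists_pair_ne
  exact hab (Subsingleton.elim _ _)

/-- A group with a 2-component is not 2-constrained. -/
theorem not_constrained_of_pComponent {C : Type*} [Group C] [Finite C] {K : Subgroup C} (hK : IsPComponent 2 K) :
    ¬ IsPConstrained 2 C := by
  intro hc
  have : Fact (Nat.Prime 2) := ⟨Nat.prime_two⟩
  have h5 := (SignalizersComponents.PConstrained.isPConstrained_iff_pLayer_eq_bot 2).1 hc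
  have h6 : K ≤ pLayer 2 C := le_sSup hK
  rw [h5, le_bot_iff] at h6
  have h7 := hK.2.1
  rw [h6, Subgroup.map_bot] at h7
  obtain ⟨_, _, h8⟩ := h7
  obtain ⟨a, b, hab⟩ := h8.exists_pair_ne
  exact hab (Subsingleton.elim _ _)

/-- `ℤ/2 × L`, `L` nonabelian simple of even order. -/
theorem not_constrained_of_prod {C : Type*} [Group C] [Finite C] {A L : Type*} [Group A] [Group L] [Finite L]
    [IsSimpleGroup L] (hL : ¬ IsMulCommutative L) (h2 : Even (Nat.card L)) (e : C ≃* A × L) :
    ¬ IsPConstrained 2 C := by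
  set f : L →* C := e.symm.toMonoidHom.comp (MonoidHom.inr A L) with hf
  have hinj : Function.Injective f := by
    intro a b h
    have := e.symm.injective h
    exact (Prod.mk.inj this).2
  have hr : f.range.Normal := by
    refine ⟨fun x hx g => ?_⟩
    obtain ⟨l, rfl⟩ := hx
    refine ⟨(e g).2 * l * ((e g).2)⁻¹, ?_⟩
    apply e.injective
    simp only [hf, MonoidHom.comp_apply, MulEquiv.toMonoidHom_eq_coe, MonoidHom.coe_coe, map_mul, map_inv,
      MulEquiv.apply_symm_apply, MonoidHom.inr_apply]
    ext <;> simp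
  have e' : L ≃* ↥f.range := MonoidHom.ofInjective hinj
  have hc : IsComponent f.range :=
    ⟨hr.isSubnormal, (SignalizersComponents.Components.isQuasisimple_congr e').1
      (CpAut.Fix.quasisimple_of_simple hL)⟩
  exact not_constrained_of_component hc (by rwa [← Nat.card_congr e'.toEquiv])

/-- **The simple groups of Lie type of odd characteristic.** -/
theorem nc_of_lie {p : ℕ} (hp2 : p ≠ 2) {G : Type u} [Group G] [Finite G] [IsSimpleGroup G]
    (hG : IsLieTypeChar p G) (hR : ¬ Lie.IsoRee G) : NC G := by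
  rcases FixBN.exists_good_model hp2 hG with ⟨K, _, _, _, _, hgood, ⟨e⟩⟩ | h
  · refine NC.congr e ?_
    intro t ht hc
    have htt : t * t = 1 := by rw [← pow_two, ← ht]; exact pow_orderOf_eq_one t
    have hinv : t⁻¹ = t := inv_eq_of_mul_eq_one_left htt
    have hfix : FixBN.Reduce.fixSub (MulAut.conj t) = centralizer ({t} : Set K) := by
      ext x
      rw [FixBN.Reduce.mem_fixSub, mem_centralizer_singleton_iff, MulAut.conj_apply]
      constructor
      · intro h
        exact (mul_inv_eq_iff_eq_mul.1 h).symm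
      · intro h
        rw [mul_inv_eq_iff_eq_mul, h]
    have h1 := solvable_fixSub hp2 hgood (MulAut.conj t) (fun g => by
      simp only [MulAut.conj_apply, hinv]
      rw [show t * (t * g * t) * t = (t * t) * g * (t * t) by group, htt, one_mul, mul_one])
    rw [hfix] at h1
    exact h1 hc
  · exact absurd h hR

end Cfsg.Agent.H325.Con
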