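import Mathlib
import Cfsg.Agent.H325.ConLie
import Cfsg.Agent.BpAlt.Row
import Cfsg.Agent.CpAut.SmallP.Tools
import Cfsg.Agent.S0144

/-!
# Nonsolvable 2-constrained groups have order divisible by 32
-/

set_option autoImplicit false

open Cfsg Subgroup

universe u

namespace Cfsg.Agent.H325.Con

theorem solvable_of_ker {X Y : Type*} [Group X] [Group Y] (f : X →* Y) (h1 : Group.IsSolvable f.ker)
    (h2 : Group.IsSolvable Y) : Group.IsSolvable X :=
  Group.isSolvable_of_ker_le_range f.ker.subtype f (by simp)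

theorem solvable_of_quotient {X : Type*} [Group X] (N : Subgroup X) [N.Normal] (h1 : Group.IsSolvable N)
    (h2 : Group.IsSolvable (X ⧸ N)) : Group.IsSolvable X :=
  Group.isSolvable_of_ker_le_range N.subtype (QuotientGroup.mk' N) (by simp)

theorem solvable_of_pGroup {X : Type*} [Group X] [Finite X] (h : IsPGroup 2 X) : Group.IsSolvable X := by
  have : Fact (Nat.Prime 2) := ⟨Nat.prime_two⟩
  have := h.isNilpotent
  infer_instance

theorem solvable_of_card_lt {X : Type*} [Group X] [Finite X] (h : Nat.card X < 60) : Group.IsSolvable X :=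
  BpAlt.solvable_of_lt _ X rfl h

/-- Only the primes 2 and 3: solvable. -/
theorem solvable_of_two_three {X : Type*} [Group X] [Finite X] {a b : ℕ} (h : Nat.card X ∣ 2 ^ a * 3 ^ b) :
    Group.IsSolvable X := by
  have h1 : ∀ p : ℕ, p.Prime → p ∣ Nat.card X → p = 2 ∨ p = 3 := by
    intro p hp hpd
    rcases (Nat.Prime.dvd_mul hp).1 (hpd.trans h) with h2 | h2
    · exact Or.inl ((Nat.prime_dvd_prime_iff_eq hp Nat.prime_two).1 (hp.dvd_of_dvd_pow h2))
    · exact Or.inr ((Nat.prime_dvd_prime_iff_eq hp Nat.prime_three).1 (hp.dvd_of_dvd_pow h2))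
  obtain ⟨y, z, hy, hz, hyz⟩ := (Nat.dvd_mul).1 h
  obtain ⟨c, -, rfl⟩ := (Nat.dvd_prime_pow Nat.prime_two).1 hy
  obtain ⟨d, -, rfl⟩ := (Nat.dvd_prime_pow Nat.prime_three).1 hz
  exact S0144.result 2 3 c d Nat.prime_two Nat.prime_three hyz.symm

/-- `C(O₂) ≤ O₂` and not solvable: `|O₂| ≥ 8` and `32` divides the order -/
theorem card_of_charTwo {X : Type*} [Group X] [Finite X] (h : centralizer (pCore 2 X : Set X) ≤ pCore 2 X)
    (hs : ¬ Group.IsSolvable X) : 32 ∣ Nat.card X := by
  have : Fact (Nat.Prime 2) := ⟨Nat.prime_two⟩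
  set Q := pCore 2 X with hQ
  have hn : Q.Normal := Cfsg.Agent.Lib.Cores.pCore_normal 2
  have h2 : IsPGroup 2 Q := Cfsg.Agent.Lib.Cores.pCore_isPGroup 2
  have hQs : Group.IsSolvable Q := solvable_of_pGroup h2
  -- the quotient is not solvable
  have hq : ¬ Group.IsSolvable (X ⧸ Q) := fun h3 => hs (solvable_of_quotient Q hQs h3)
  have h4 : 4 ∣ Nat.card (X ⧸ Q) := by
    by_contra h4
    exact hq (CpAut.SmallP.isSolvable_of_not_four_dvd h4)
  -- `|Q| ≥ 8`
  have h8 : 8 ∣ Nat.card Q := by
    obtain ⟨n, hn⟩ := IsPGroup.iff_card.1 h2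
    rcases Nat.lt_or_ge n 3 with h5 | h5
    · exfalso
      apply hs
      have h6 : Nat.card Q ≤ 4 := by
        rw [hn]
        calc 2 ^ n ≤ 2 ^ 2 := Nat.pow_le_pow_right (by norm_num) (by omega)
          _ = 4 := by norm_num
      let f : X →* MulAut Q := MulAut.conjNormal
      have h7 : Nat.card (MulAut Q) ≤ 24 := by
        have h8 : Nat.card (MulAut Q) ≤ Nat.card (Equiv.Perm Q) :=
          Nat.card_le_card_of_injective (MulAction.toPermHom (MulAut Q) Q) MulAction.toPerm_injective
        rw [Nat.card_perm] at h8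
        exact h8.trans (Nat.factorial_le h6)
      have h9 : Group.IsSolvable (MulAut Q) := solvable_of_card_lt (by omega)
      have h10 : f.ker ≤ Q := by
        refine le_trans ?_ h
        intro x hx y hy
        have h11 := congrArg (fun φ : MulAut Q => ((φ ⟨y, hy⟩ : Q) : X)) (MonoidHom.mem_ker.1 hx)
        simp only [f, MulAut.conjNormal_apply, MulAut.one_apply] at h11
        exact (mul_inv_eq_iff_eq_mul.1 h11).symm
      have h12 : Group.IsSolvable f.ker := Group.isSolvable_of_isSolvable_injective (f := inclusion h10) (inclusion_injective h10)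
      exact solvable_of_ker f h12 h9
    · rw [hn]
      exact pow_dvd_pow 2 h5
  rw [← Q.card_mul_index, index_eq_card]
  exact mul_dvd_mul h8 h4

/-- A nonsolvable 2-constrained group has order divisible by 32. -/
theorem dvd_of_constrained {X : Type*} [Group X] [Finite X] (h : IsPConstrained 2 X)
    (hs : ¬ Group.IsSolvable X) : 32 ∣ Nat.card X := by
  have : Fact (Nat.Prime 2) := ⟨Nat.prime_two⟩
  have h1 := PLocal.PConstrained.isPConstrained_iff.1 h
  have hn : (pPrimeCore 2 X).Normal := Lib.Cores.pPrimeCore_normal 2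
  have h2 : ¬ Group.IsSolvable (X ⧸ pPrimeCore 2 X) := by
    intro h3
    refine hs (solvable_of_quotient _ ?_ h3)
    have h4 : ¬ 4 ∣ Nat.card (pPrimeCore 2 X) := by
      intro h4
      have h5 : (Nat.card (pPrimeCore 2 X)).Coprime 2 := Lib.Cores.pPrimeCore_coprime 2
      have h6 : 2 ∣ Nat.card (pPrimeCore 2 X) := (by norm_num : 2 ∣ 4).trans h4
      exact absurd (Nat.Coprime.eq_one_of_dvd h5.symm h6) (by norm_num)
    exact CpAut.SmallP.isSolvable_of_not_four_dvd h4
  have h3 := card_of_charTwo h1 h2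
  exact h3.trans (card_quotient_dvd_card _)

/-- No 2-constrained nonsolvable subgroup in a group of order not divisible by 32 -/
theorem nc_of_card {G : Type*} [Group G] [Finite G] (h : ¬ 32 ∣ Nat.card G) : NC G := by
  intro t _ hc
  by_contra hs
  exact h ((dvd_of_constrained hc hs).trans (card_subgroup_dvd_card _))

end Cfsg.Agent.H325.Con
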