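import Mathlib
import Cfsg.Agent.J4Type.FusionM22
import Cfsg.Agent.J4Type.InvFix
import Cfsg.Agent.SporadicA.MathieuRecog
import Cfsg.Agent.H325.ConCard

/-!
# `M₂₂`: the centralizers of involutions are `{2, 3}`-groups
-/

set_option autoImplicit false

open Cfsg Subgroup

universe u

namespace Cfsg.Agent.H325.ConM22

theorem card_filter_modEq {α : Type*} [Fintype α] [DecidableEq α] (f : Equiv.Perm α) {p : ℕ} [hp : Fact p.Prime]
    (hf : f ^ p = 1) (S : Finset α) (hS : ∀ a, f a ∈ S ↔ a ∈ S) :
    (S.filter fun a => f a = a).card ≡ S.card [MOD p] := by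
  classical
  set σ : Equiv.Perm {x // x ∈ S} := f.subtypePerm hS with hσ
  have h1 : σ ^ p ^ 1 = 1 := by
    rw [pow_one, hσ, Equiv.Perm.subtypePerm_pow]
    ext a
    simp [hf]
  have h2 := Equiv.Perm.card_compl_support_modEq h1
  rw [Fintype.card_coe] at h2
  have h3 : (σ.supportᶜ).map (Function.Embedding.subtype _) = S.filter fun a => f a = a := by
    ext a
    simp only [Finset.mem_map, Finset.mem_compl, Equiv.Perm.mem_support, not_not, Function.Embedding.coe_subtype,
      Finset.mem_filter]
    constructor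
    · rintro ⟨b, hb, rfl⟩
      exact ⟨b.2, congrArg Subtype.val hb⟩
    · rintro ⟨ha, hfa⟩
      exact ⟨⟨a, ha⟩, Subtype.ext hfa, rfl⟩
  rw [← h3, Finset.card_map]
  exact h2

/-- Five fixed points: only the primes 2 and 3. -/
theorem not_five_fixed {x : Equiv.Perm GolayPt} (hx : x ∈ M24) {p : ℕ} (hp : p.Prime) (hp4 : 3 < p) (ho : orderOf x = p) :
    (Finset.univ.filter fun a : GolayPt => x a = a).card < 5 := by
  by_contra hcon
  push Not at hcon
  obtain ⟨s, hs, hs5⟩ := Finset.exists_subset_card_eq hcon
  have h48 := Cfsg.Agent.J4Type.InvFix.card_fix_five hs5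
  have hmem : (⟨x, hx⟩ : M24) ∈ fixingSubgroup M24 (s : Set GolayPt) := by
    rw [mem_fixingSubgroup_iff]
    intro a ha
    exact (Finset.mem_filter.1 (hs ha)).2
  have h1 : orderOf (⟨⟨x, hx⟩, hmem⟩ : fixingSubgroup M24 (s : Set GolayPt)) = p := by
    rw [← Subgroup.orderOf_coe, ← ho]
    exact (Subgroup.orderOf_coe (⟨x, hx⟩ : M24)).symm
  have h2 : p ∣ 48 := by
    rw [← h48, ← h1]
    exact orderOf_dvd_natCard _
  have h3 : p ∣ 2 ^ 4 * 3 := by norm_num; exact h2
  rcases hp.dvd_mul.1 h3 with h | h
  · have := Nat.le_of_dvd (by norm_num) (hp.dvd_of_dvd_pow h)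
    omega
  · have := Nat.le_of_dvd (by norm_num) h
    omega

theorem no_comm {t x : Equiv.Perm GolayPt} (ht : t ∈ Spor.M22) (hx : x ∈ Spor.M22) (htt : t * t = 1) (ht1 : t ≠ 1)
    {p : ℕ} (hp : p.Prime) (hp4 : 3 < p) (hp12 : p < 12) (ho : orderOf x = p) (hc : x * t = t * x) : False := by
  classical
  have hfp : Fact p.Prime := ⟨hp⟩
  have htM : t ∈ M24 := ht.1.1
  have hxM : x ∈ M24 := hx.1.1
  have ht0 : t none = none := ht.1.2
  have ht00 : t (some 0) = some 0 := ht.2
  have hx0 : x none = none := hx.1.2
  have hx00 : x (some 0) = some 0 := hx.2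
  have hxp : x ^ p = 1 := by rw [← ho]; exact pow_orderOf_eq_one x
  have ht2 : t ^ 2 = 1 := by rw [pow_two, htt]
  have h8 := Cfsg.Agent.J4Type.FusionM22.card_fix htM htt ht1 ht0
  set A := Finset.univ.filter fun a : GolayPt => t a = a with hA
  have hcomm : ∀ a, x (t a) = t (x a) := fun a => by
    have := congrArg (fun f : Equiv.Perm GolayPt => f a) hc
    simpa using this
  have hAx : ∀ a, x a ∈ A ↔ a ∈ A := by
    intro a
    simp only [hA, Finset.mem_filter, Finset.mem_univ, true_and]
    rw [← hcomm]
    exact x.injective.eq_iff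
  set B := Finset.univ.filter fun a : GolayPt => ¬ t a = a with hB
  have hBx : ∀ a, x a ∈ B ↔ a ∈ B := by
    intro a
    have := hAx a
    simp only [hA, hB, Finset.mem_filter, Finset.mem_univ, true_and] at this ⊢
    exact not_congr this
  have hcardB : B.card = 16 := by
    have h1 : A.card + B.card = (Finset.univ : Finset GolayPt).card := by
      rw [hA, hB]
      convert Finset.card_filter_add_card_filter_not (s := (Finset.univ : Finset GolayPt)) (fun a : GolayPt => t a = a)
    have h2 : (Finset.univ : Finset GolayPt).card = 24 := by decide +kernel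
    rw [h2, h8] at h1
    omega
  have hm1 := card_filter_modEq x hxp A hAx
  have hm2 := card_filter_modEq x hxp B hBx
  rw [h8] at hm1
  rw [hcardB] at hm2
  set a := (A.filter fun a => x a = a).card with ha
  set b := (B.filter fun a => x a = a).card with hb
  -- two fixed points
  have ha2 : 2 ≤ a := by
    have h1 : ({none, some 0} : Finset GolayPt) ⊆ A.filter fun a => x a = a := by
      intro y hy
      rw [Finset.mem_insert, Finset.mem_singleton] at hy
      rcases hy with rfl | rfl
      · simp [hA, ht0, hx0]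
      · simp [hA, ht00, hx00]
    have h2 := Finset.card_le_card h1
    have h3 : ({none, some 0} : Finset GolayPt).card = 2 := by decide +kernel
    omega
  have ha8 : a ≤ 8 := h8 ▸ Finset.card_filter_le _ _
  have hb16 : b ≤ 16 := hcardB ▸ Finset.card_filter_le _ _
  -- `b` is even
  have hbe : b % 2 = 0 := by
    have hS : ∀ y, t y ∈ (B.filter fun a => x a = a) ↔ y ∈ (B.filter fun a => x a = a) := by
      intro y
      simp only [hB, Finset.mem_filter, Finset.mem_univ, true_and]
      rw [hcomm, t.injective.eq_iff, t.injective.eq_iff]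
    have h1 := card_filter_modEq (p := 2) t ht2 (B.filter fun a => x a = a) hS
    have h2 : ((B.filter fun a => x a = a).filter fun a => t a = a).card = 0 := by
      rw [Finset.card_eq_zero]
      apply Finset.eq_empty_of_forall_notMem
      intro y hy
      simp only [hB, Finset.mem_filter, Finset.mem_univ, true_and] at hy
      exact hy.1.1 hy.2
    rw [h2] at h1
    exact h1.symm
  have htot : a + b < 5 := by
    refine lt_of_eq_of_lt ?_ (not_five_fixed hxM hp hp4 ho)
    have h1 := Finset.card_filter_add_card_filter_not (s := (Finset.univ.filter fun a : GolayPt => x a = a)) (fun a : GolayPt => t a = a)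
    rw [← h1, ha, hb, hA, hB, Finset.filter_filter, Finset.filter_filter, Finset.filter_filter, Finset.filter_filter]
    congr 2 <;> · ext y; simp [and_comm]
  have hp' : p = 5 ∨ p = 7 ∨ p = 11 := by
    interval_cases p <;> first | (exfalso; revert hp; decide) | tauto
  unfold Nat.ModEq at hm1 hm2
  rcases hp' with rfl | rfl | rfl <;> omega

/-- **The centralizer of an involution of `M₂₂` is solvable.** -/
theorem solvable {t : Spor.M22} (ht : orderOf t = 2) : Group.IsSolvable ↥(centralizer ({t} : Set Spor.M22)) := by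
  have htt : t * t = 1 := by rw [← pow_two, ← ht]; exact pow_orderOf_eq_one t
  have ht1 : t ≠ 1 := by
    rintro rfl
    rw [orderOf_one] at ht
    omega
  have htt' : (t : Equiv.Perm GolayPt) * t = 1 := congrArg Subtype.val htt
  have ht1' : (t : Equiv.Perm GolayPt) ≠ 1 := fun h => ht1 (Subtype.ext h)
  have hcard : Nat.card Spor.M22 = 443520 := Cfsg.Agent.SporadicA.MathieuRecog.card_M22
  set C := centralizer ({t} : Set Spor.M22) with hC
  have hdvd : Nat.card C ∣ 443520 := hcard ▸ card_subgroup_dvd_card _
  have hno : ∀ p : ℕ, p.Prime → 3 < p → p < 12 → (Nat.card C).Coprime p := by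
    intro p hp h3 h12
    have : Fact p.Prime := ⟨hp⟩
    refine Nat.Coprime.symm ((Nat.Prime.coprime_iff_not_dvd hp).2 fun h => ?_)
    obtain ⟨x, hx⟩ := exists_prime_orderOf_dvd_card' p h
    have h4 := mem_centralizer_singleton_iff.1 x.2
    refine no_comm t.2 (x : Spor.M22).2 htt' ht1' hp h3 h12 ?_ (congrArg Subtype.val h4)
    rw [Subgroup.orderOf_coe, Subgroup.orderOf_coe, hx]
  have h1 : Nat.card C ∣ 11 * 40320 := by simpa using hdvd
  have h2 : Nat.card C ∣ 7 * 5760 := by
    simpa using (hno 11 (by norm_num) (by norm_num) (by norm_num)).dvd_of_dvd_mul_left h1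
  have h3 : Nat.card C ∣ 5 * 1152 := by
    simpa using (hno 7 (by norm_num) (by norm_num) (by norm_num)).dvd_of_dvd_mul_left h2
  have h4 : Nat.card C ∣ 2 ^ 7 * 3 ^ 2 := by
    simpa using (hno 5 (by norm_num) (by norm_num) (by norm_num)).dvd_of_dvd_mul_left h3
  exact Con.solvable_of_two_three h4

theorem nc {X : Type*} [Group X] [Finite X] (h : Spor.IsoM22 X) : Con.NC X := by
  obtain ⟨e⟩ := h
  exact Con.NC.congr e fun t ht _ => solvable ht

end Cfsg.Agent.H325.ConM22
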