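import Cfsg.Agent.H325.LocStruct
import Cfsg.Agent.H138.SqBase
import Cfsg.Agent.H772.PearlChar

/-!
# Primes isolated from the `p`-local subgroups, for groups of Lie type

`piso_of_rgd`: a prime dividing the order of no proper parabolic subgroup is isolated (Borel–Tits).
`piso_of_tab`: numerical version for a primitive prime divisor of `q ^ d - 1`, with the check of helper138.
-/

set_option autoImplicit false
set_option linter.unusedSectionVars false

namespace Cfsg.Agent.H325.IsoRgd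

open CoxeterSystem Cfsg.Agent.ChevalleyStructure.CoxeterGeom Cfsg.Agent.Tits.Roots Cfsg.Agent.Tits.Core
  Cfsg.Agent.Tits.RootComb Cfsg.Agent.Nodes.Comb Cfsg.Agent.Nodes.Reps Cfsg.Agent.Nodes.BNOf
  Cfsg.Agent.Nodes.StabComb Cfsg.Agent.Nodes.Bruhat Cfsg.Agent.Nodes.LeviDec Cfsg.Agent.Nodes.NormalForm
  Cfsg.Agent.ParSys Cfsg.Agent.ParSys.RootCount Cfsg.Agent.Tits.Exchange
  Cfsg.Agent.Omega.EH3Close.CountU
open Cfsg.Agent.H396 (Conn)
open Cfsg.Agent.Omega.EH3.Kf.Lev (CommGen)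
open Cfsg.Agent.H325.Loc Cfsg.Agent.KFacts.RgdFilt Cfsg.Agent.H138.SqBase
open Subgroup (normalizer)

section Main

variable {I W Y : Type*} [Fintype I] [DecidableEq I] [Group W] [Group Y] {M : CoxeterMatrix I}
  {cs : CoxeterSystem M W} {A : I → I → ℤ} {h : IsCartan M A} {p : ℕ} {T : Subgroup Y} {n : I → Y}
  {X : (I → ℤ) → Subgroup Y}

/-- every proper subgroup of index prime to `p` is conjugate into a proper parabolic subgroup -/
theorem exists_le_PJ [Finite W] [Finite Y] [Fact p.Prime] (R : RGD cs h p T n X)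
    (hG : Nodes.RGDLib.G1 cs h X = ⊤) (P : Subgroup Y) (hP : P ≠ ⊤) (hpi : ¬ p ∣ P.index) :
    ∃ (g : Y) (K : Set I), K ≠ Set.univ ∧ cj g P ≤ PJ cs h T X K := by
  have hGG : GG cs h T X = ⊤ := by
    rw [eq_top_iff, ← hG]
    exact le_sup_right
  obtain ⟨g, hg⟩ := H248.Ovg.exists_conj_le (R.isPGroup_Upos) hpi
  have hU : RGD.Sup X (RGD.Pos cs h) ≤ cj g⁻¹ P := by
    rw [← cj_le_cj_iff g, cj_cj_inv]; exact hg
  by_cases hJ : H248.TitsRGD.JU T n (cj g⁻¹ P) = Set.univ
  · exfalso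
    have h1 := H248.TitsRGD.Sup_le_of_univ R hU hJ
    have h2 : cj g⁻¹ P = ⊤ := by
      rw [eq_top_iff, ← hG]; exact h1
    have h3 : (cj g⁻¹ P).index = 1 := by rw [h2, Subgroup.index_top]
    rw [show (cj g⁻¹ P).index = P.index from Subgroup.index_map_equiv P (MulAut.conj g⁻¹),
      Subgroup.index_eq_one] at h3
    exact hP h3
  · exact ⟨g⁻¹, _, hJ, H248.TitsRGD.le_PJ R hU (by rw [hGG]; exact le_top)⟩

/-- **Isolated primes from a root group datum.** -/
theorem piso_of_rgd [Finite W] [Finite Y] [Fact p.Prime] [IsSimpleGroup Y] (hc : ∃ a b : Y, a * b ≠ b * a)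
    (hF : HasFilt p Y) (R : RGD cs h p T n X) (hG : Nodes.RGDLib.G1 cs h X = ⊤)
    {u : ℕ} (hu : u.Prime) (hup : u ≠ p)
    (hT : ¬ u ∣ Nat.card T)
    (hJ : ∀ J : Finset I, J.Nonempty → J ≠ Finset.univ → (∀ J₁ : Finset I, J₁ ⊆ J → J₁.Nonempty → J₁ ≠ J →
      ∃ a ∈ J₁, ∃ b ∈ J, b ∉ J₁ ∧ M a b ≠ 2) →
      ¬ (u : ℤ) ∣ (Nat.card (RGD.Sup X (PosJ cs h (J : Set I))) : ℤ) - (-1) ^ J.card) : PIso p u Y := by
  intro Q hQ hQ1 hd
  obtain ⟨V, hV, hQV, hle, S, hS⟩ := H772.Pearl.exists_par_sylow hF hc hQ hQ1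
  have hP : normalizer (V : Set Y) ≠ ⊤ := by
    intro h0
    have hVn : V.Normal := Subgroup.normalizer_eq_top_iff.1 h0
    rcases hVn.eq_bot_or_eq_top with h1 | h1
    · rw [h1, le_bot_iff] at hQV
      exact hQ1 hQV
    · rw [h1] at hV
      have hY : IsPGroup p Y := hV.of_equiv Subgroup.topEquiv
      have hnt : Nontrivial Y := inferInstance
      have h2 : Nontrivial (Subgroup.center Y) := hY.center_nontrivial
      rcases (inferInstance : (Subgroup.center Y).Normal).eq_bot_or_eq_top with h3 | h3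
      · rw [h3] at h2
        exact not_nontrivial _ h2
      · obtain ⟨a, b, hab⟩ := hc
        apply hab
        have : a ∈ Subgroup.center Y := by rw [h3]; trivial
        exact ((Subgroup.mem_center_iff.1 this) b).symm
  have hidx : ¬ p ∣ (normalizer (V : Set Y)).index := by
    intro h1
    exact S.not_dvd_index (h1.trans (Subgroup.index_dvd_of_le hS))
  obtain ⟨g, K, hK, hle'⟩ := exists_le_PJ R hG _ hP hidx
  exact H396.Crit.not_dvd_card R hu hup hT hJ hK hle' (hd.trans (Subgroup.card_dvd_of_le hle))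

end Main

section Tab

variable {k : ℕ} {W Y : Type*} [Group W] [Group Y] {M : CoxeterMatrix (Fin k)}
  {cs : CoxeterSystem M W} {A : Fin k → Fin k → ℤ} {h : IsCartan M A} {p : ℕ} {T : Subgroup Y} {n : Fin k → Y}
  {X : (Fin k → ℤ) → Subgroup Y}

/-- **Isolated primitive prime divisors.** -/
theorem piso_of_tab [Finite W] [Finite Y] [Fact p.Prime] [IsSimpleGroup Y] (hc : ∃ a b : Y, a * b ≠ b * a)
    (hF : HasFilt p Y) (R : RGD cs h p T n X)
    (hG : Nodes.RGDLib.G1 cs h X = ⊤)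
    {L : List (Fin k → ℤ)} (hR : PosRoots A L.toFinset) (hN : L.Nodup) {len : (Fin k → ℤ) → ℕ}
    (hlen : ∀ i, ∀ v ∈ L, v ≠ Pi.single i 1 → len (refl A i v) = len v)
    {q d u : ℕ} (hq2 : 2 ≤ q) (hpq : p ∣ q) (hq : ∀ i, Nat.card (X (sr i)) = q ^ len (Pi.single i 1))
    (hu : H436.Prim q d u) (hd : 2 ≤ d) (hT : ¬ u ∣ Nat.card T)
    {Tb : List (ℕ × ℕ)} (hTb : (L.map fun v => (supp v, len v)) = Tb) {bad : List ℕ}
    (hchk : chk k d Tb bad = true)
    (hbad : ∀ J : Finset (Fin k), mJ J ∈ bad →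
      ∃ J₁ : Finset (Fin k), J₁ ⊆ J ∧ J₁.Nonempty ∧ J₁ ≠ J ∧ ∀ a ∈ J₁, ∀ b ∈ J, b ∉ J₁ → M a b = 2) : PIso p u Y := by
  have hup : u ≠ p := by
    rintro rfl
    exact hu.not_dvd hpq
  refine piso_of_rgd hc hF R hG hu.prime hup hT ?_
  intro J hJ hJ' hconn
  have hcard : Nat.card (RGD.Sup X (PosJ cs h (J : Set (Fin k)))) = q ^ H138.SqBase.NN Tb (mJ J) := by
    classical
    rw [card_UJ R hR (wt := fun v => q ^ len v) (fun i v hv hne => by
      rw [hlen i v (List.mem_toFinset.1 hv) hne]) hq (J : Set (Fin k))]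
    have e1 : (L.toFinset.filter fun v => ∀ i, i ∉ (J : Set (Fin k)) → v i = 0) =
        (L.filter fun v => supp v &&& mJ J == supp v).toFinset := by
      ext v
      rw [Finset.mem_filter, List.mem_toFinset, List.mem_toFinset, List.mem_filter, beq_iff_eq, supp_land]
    rw [e1, List.prod_toFinset _ (hN.filter _)]
    unfold H138.SqBase.NN
    rw [← hTb]
    have e2 : ∀ L' : List (Fin k → ℤ), (L'.map fun v => q ^ len v).prod = q ^ (L'.map len).sum := by
      intro L'
      induction L' with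
      | nil => simp
      | cons a L' ih => rw [List.map_cons, List.prod_cons, ih, List.map_cons, List.sum_cons, pow_add]
    rw [e2, List.filter_map, List.map_map]
    rfl
  rw [hcard, ← pc_mJ J]
  refine not_dvd_of_okB hq2 hu hd ?_
  have h1 := (List.all_eq_true.1 hchk) (mJ J) (List.mem_range.2 (msk_lt _))
  rw [Bool.or_eq_true, Bool.or_eq_true, Bool.or_eq_true] at h1
  rcases h1 with ((h1 | h1) | h1) | h1
  · exfalso
    rw [beq_iff_eq] at h1
    have h2 : mJ (∅ : Finset (Fin k)) = 0 := by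
      apply Nat.eq_of_testBit_eq
      intro j
      rw [Nat.zero_testBit]
      by_cases hj : j < k
      · have h1 := testBit_msk (fun i : Fin k => decide (i ∈ (∅ : Finset (Fin k)))) ⟨j, hj⟩
        simpa [mJ] using h1
      · exact Nat.testBit_lt_two_pow (lt_of_lt_of_le (msk_lt _) (Nat.pow_le_pow_right two_pos (not_lt.1 hj)))
    have h3 := mJ_inj (h1.trans h2.symm)
    rw [h3] at hJ
    exact Finset.not_nonempty_empty hJ
  · exfalso
    rw [beq_iff_eq] at h1
    apply hJ'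
    ext i
    simp only [Finset.mem_univ, iff_true]
    have h2 : (2 ^ k - 1).testBit i = true := by
      rw [Nat.testBit_two_pow_sub_one]
      exact decide_eq_true i.2
    rw [← h1] at h2
    simp only [mJ, testBit_msk] at h2
    simpa using h2
  · exfalso
    obtain ⟨J₁, h2, h3, h4, h5⟩ := hbad J (List.contains_iff_mem.1 h1)
    obtain ⟨a, ha, b, hb, hb1, hab⟩ := hconn J₁ h2 h3 h4
    exact hab (h5 a ha b hb hb1)
  · exact h1

end Tab

end Cfsg.Agent.H325.IsoRgd
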