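import Mathlib

set_option autoImplicit false

namespace Cfsg.Agent.H325

open Equiv Equiv.Perm

variable {Ω : Type*} [Fintype Ω] [DecidableEq Ω]

/-- Inserting two new points into a cycle keeps the order odd. -/
theorem odd_insert_left {g : Perm Ω} (hg : Odd (orderOf g)) {b d p : Ω} (hb : g b = b) (hd : g d = d)
    (hbd : b ≠ d) (hpb : p ≠ b) (hpd : p ≠ d) : Odd (orderOf (swap b d * swap d p * g)) := by
  classical
  by_cases hp : g p = p
  · -- p fixed
    have h3 : (swap b d * swap d p : Perm Ω) ^ 3 = 1 := by
      have := List.formPerm_pow_length_eq_one_of_nodup (l := [b, d, p]) (by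
        simp [hbd, hpb.symm, hpd.symm])
      simpa using this
    have hcomm : Commute (swap b d * swap d p : Perm Ω) g := by
      apply Equiv.Perm.Disjoint.commute
      intro w
      by_cases h1 : w = b
      · right; rw [h1, hb]
      by_cases h2 : w = d
      · right; rw [h2, hd]
      by_cases h3 : w = p
      · right; rw [h3, hp]
      left
      rw [Perm.mul_apply, swap_apply_of_ne_of_ne h2 h3, swap_apply_of_ne_of_ne h1 h2]
    have : (swap b d * swap d p * g : Perm Ω) ^ (3 * orderOf g) = 1 := by
      rw [hcomm.mul_pow, pow_mul, h3, one_pow, one_mul, mul_comm, pow_mul, pow_orderOf_eq_one, one_pow]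
    exact Odd.of_dvd_nat ((by decide : Odd 3).mul hg) (orderOf_dvd_of_pow_eq_one this)
  · set c := cycleOf g p with hc
    have hcp : c = List.formPerm (toList g p) := (formPerm_toList g p).symm
    have hsup : ∀ w, w ∉ c.support → c w = w := fun w hw => by simpa using hw
    have hmem : ∀ w, w ∈ toList g p ↔ SameCycle g p w ∧ w ∈ g.support := by
      intro w
      rw [mem_toList_iff]
      constructor
      · rintro ⟨h1, h2⟩
        exact ⟨h1, h1.mem_support_iff.1 h2⟩
      · rintro ⟨h1, h2⟩
        exact ⟨h1, h1.mem_support_iff.2 h2⟩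
    have hbn : b ∉ toList g p := by
      intro h
      have := ((hmem b).1 h).2
      simp [hb] at this
    have hdn : d ∉ toList g p := by
      intro h
      have := ((hmem d).1 h).2
      simp [hd] at this
    have hne : toList g p ≠ [] := by
      intro h
      have := toList_eq_nil_iff.1 h
      simp [hp] at this
    obtain ⟨p', l, hl⟩ := List.exists_cons_of_ne_nil hne
    have hp' : p' = p := by
      have h0 := toList_getElem_zero g p (by simpa using hp)
      simpa [hl] using h0
    subst hp'
    have hnod : (p' :: l).Nodup := hl ▸ nodup_toList g p'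
    have hnod2 : (b :: d :: p' :: l).Nodup := by
      rw [List.nodup_cons, List.nodup_cons]
      refine ⟨?_, ?_, hnod⟩
      · intro h
        rcases List.mem_cons.1 h with h | h
        · exact hbd h
        · exact hbn (hl ▸ h)
      · intro h
        exact hdn (hl ▸ h)
    have hform : swap b d * swap d p' * c = List.formPerm (b :: d :: p' :: l) := by
      rw [List.formPerm_cons_cons, List.formPerm_cons_cons, hcp, hl, mul_assoc]
    set r := c⁻¹ * g with hr
    have hgcr : g = c * r := by rw [hr]; group
    have hrfix : ∀ w, w ∈ p' :: l → r w = w := by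
      intro w hw
      have h1 := ((hmem w).1 (hl ▸ hw)).1
      rw [hr, Perm.mul_apply, Perm.inv_eq_iff_eq]
      rw [hc, h1.cycleOf_apply]
    have hrb : r b = b := by
      rw [hr, Perm.mul_apply, hb, Perm.inv_eq_iff_eq, hcp, List.formPerm_apply_of_notMem hbn]
    have hrd : r d = d := by
      rw [hr, Perm.mul_apply, hd, Perm.inv_eq_iff_eq, hcp, List.formPerm_apply_of_notMem hdn]
    have hdisj : Disjoint (List.formPerm (b :: d :: p' :: l)) r := by
      intro w
      by_cases hw : w ∈ b :: d :: p' :: l
      · right
        rcases List.mem_cons.1 hw with h | h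
        · rw [h, hrb]
        rcases List.mem_cons.1 h with h | h
        · rw [h, hrd]
        exact hrfix w h
      · left
        exact List.formPerm_apply_of_notMem hw
    have hcr : Commute c r := by
      apply Equiv.Perm.Disjoint.commute
      intro w
      by_cases hw : w ∈ p' :: l
      · right; exact hrfix w hw
      · left; rw [hcp, hl]; exact List.formPerm_apply_of_notMem hw
    have hcord : orderOf c ∣ orderOf g := orderOf_cycleOf_dvd_orderOf g p'
    have hrord : r ^ orderOf g = 1 := by
      have h1 : g ^ orderOf g = 1 := pow_orderOf_eq_one g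
      rw [hgcr, hcr.mul_pow] at h1
      rw [← hgcr] at h1
      rwa [orderOf_dvd_iff_pow_eq_one.1 hcord, one_mul] at h1
    have hlen : Odd (p' :: l).length := by
      have h1 : (p' :: l).length = orderOf c := by
        rw [← hl, length_toList]
        exact ((isCycle_cycleOf g hp).orderOf).symm
      rw [h1]
      exact Odd.of_dvd_nat hg hcord
    have hpow : (swap b d * swap d p' * g : Perm Ω) ^ ((b :: d :: p' :: l).length * orderOf g) = 1 := by
      have e1 : (swap b d * swap d p' * g : Perm Ω) = List.formPerm (b :: d :: p' :: l) * r := by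
        rw [← hform, mul_assoc _ c r, ← hgcr]
      rw [e1, hdisj.commute.mul_pow, pow_mul, List.formPerm_pow_length_eq_one_of_nodup _ hnod2, one_pow,
        one_mul, mul_comm, pow_mul, hrord, one_pow]
    refine Odd.of_dvd_nat (Odd.mul ?_ hg) (orderOf_dvd_of_pow_eq_one hpow)
    have : (b :: d :: p' :: l).length = (p' :: l).length + 2 := by simp
    rw [this]
    exact hlen.add_even even_two

theorem orderOf_mul_swap' {G : Type*} [Group G] (a b : G) : orderOf (a * b) = orderOf (b * a) := by
  have : b * a = b * (a * b) * b⁻¹ := by group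
  rw [this, ← MulAut.conj_apply]
  exact (MulEquiv.orderOf_eq (MulAut.conj b) (a * b)).symm

/-- Inserting two new points into a cycle keeps the order odd. -/
theorem odd_insert {g : Perm Ω} (hg : Odd (orderOf g)) {b d p : Ω} (hb : g b = b) (hd : g d = d)
    (hbd : b ≠ d) (hpb : p ≠ b) (hpd : p ≠ d) : Odd (orderOf (g * (swap b d * swap d p))) := by
  rw [orderOf_mul_swap']
  exact odd_insert_left hg hb hd hbd hpb hpd

theorem odd_insert' {g : Perm Ω} (hg : Odd (orderOf g)) {b d p : Ω} (hb : g b = b) (hd : g d = d)
    (hbd : b ≠ d) (hpb : p ≠ b) (hpd : p ≠ d) : Odd (orderOf (g * (swap p b * swap b d))) := by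
  have h := odd_insert_left (g := g⁻¹) (by rwa [orderOf_inv]) (b := d) (d := b) (p := p)
    (by rw [Perm.inv_eq_iff_eq, hd]) (by rw [Perm.inv_eq_iff_eq, hb]) hbd.symm hpd hpb
  rw [← orderOf_inv] at h
  have e : (swap d b * swap b p * g⁻¹)⁻¹ = g * (swap p b * swap b d) := by
    rw [mul_inv_rev, mul_inv_rev, inv_inv, swap_inv, swap_inv, swap_comm d b, swap_comm b p]
  rwa [e] at h

end Cfsg.Agent.H325
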