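import Cfsg.Agent.H777.ElimDef
import Cfsg.Agent.H494.PSURow
import Cfsg.Agent.H749.Val
import Cfsg.Agent.ClassicalGeometry.SplitTorus

/-!
# `PSU_n(q)` with Sylow 3-subgroup of order `3 ^ 10`

`|PSU_n(q)|_3 = 3 ^ 10` and `3 ∤ q` force an element of order 81 or an abelian 3-subgroup of order `3 ^ 6`
(`row_psu`).
-/

set_option autoImplicit false

namespace Cfsg.Agent.H325.RowPSU

open Subgroup Cfsg Cfsg.Agent.H777.Elim Matrix Cfsg.Agent.H494.PSURow
open Cfsg.Agent.LieClassical.SUBasic Cfsg.Agent.LieClassical.HermBasic Cfsg.Agent.H749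

/-- abelian `3`-subgroups of order at least `3 ^ N` -/
def AbP (N : ℕ) (K : Type*) [Group K] : Prop :=
  ∃ A : Subgroup K, IsPGroup 3 A ∧ (∀ x ∈ A, ∀ y ∈ A, x * y = y * x) ∧ 3 ^ N ≤ Nat.card A

theorem AbP.mono {N M : ℕ} {K : Type*} [Group K] (h : AbP N K) (hM : M ≤ N) : AbP M K := by
  obtain ⟨A, h1, h2, h3⟩ := h
  exact ⟨A, h1, h2, (Nat.pow_le_pow_right (by norm_num) hM).trans h3⟩

theorem AbP.zero {K : Type*} [Group K] : AbP 0 K := by
  refine ⟨⊥, IsPGroup.of_bot, ?_, ?_⟩
  · intro x hx y hy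
    rw [mem_bot.1 hx, mem_bot.1 hy]
  · rw [pow_zero, card_bot]

/-- transport along a homomorphism injective on 3-elements -/
theorem AbP.of_hom {N : ℕ} {K L : Type*} [Group K] [Group L] (h : AbP N L) (f : L →* K)
    (hf : ∀ x, (∃ k, x ^ 3 ^ k = 1) → f x = 1 → x = 1) : AbP N K := by
  obtain ⟨A, hA, hab, hc⟩ := h
  refine ⟨A.map f, hA.map _, ?_, ?_⟩
  · rintro _ ⟨x, hx, rfl⟩ _ ⟨y, hy, rfl⟩
    rw [← map_mul, ← map_mul, hab x hx y hy]
  · have hinj : Function.Injective (f.comp A.subtype) := by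
      rw [injective_iff_map_eq_one]
      intro x hx
      obtain ⟨k, hk⟩ := hA x
      exact Subtype.ext (hf x ⟨k, by rw [← Subgroup.coe_pow, hk]; rfl⟩ hx)
    have h2 : Nat.card A = Nat.card (f.comp A.subtype).range :=
      Nat.card_congr (MonoidHom.ofInjective hinj).toEquiv
    have h3 : (f.comp A.subtype).range = A.map f := by
      rw [MonoidHom.range_comp, Subgroup.range_subtype]
    rw [h2, h3] at hc
    exact hc

theorem AbP.prod {N M : ℕ} {K L : Type*} [Group K] [Group L] (h : AbP N K) (h' : AbP M L) :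
    AbP (N + M) (K × L) := by
  obtain ⟨A, hA, hab, hc⟩ := h
  obtain ⟨B, hB, hab', hc'⟩ := h'
  refine ⟨A.prod B, ?_, ?_, ?_⟩
  · intro x
    obtain ⟨k, hk⟩ := hA ⟨x.1.1, x.2.1⟩
    obtain ⟨l, hl⟩ := hB ⟨x.1.2, x.2.2⟩
    refine ⟨k + l, Subtype.ext (Prod.ext ?_ ?_)⟩
    · have h1 : (x.1.1) ^ 3 ^ k = 1 := congrArg Subtype.val hk
      change (x.1.1) ^ 3 ^ (k + l) = 1
      rw [pow_add, pow_mul, h1, one_pow]
    · have h1 : (x.1.2) ^ 3 ^ l = 1 := congrArg Subtype.val hl
      change (x.1.2) ^ 3 ^ (k + l) = 1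
      rw [add_comm, pow_add, pow_mul, h1, one_pow]
  · intro x hx y hy
    exact Prod.ext (hab _ hx.1 _ hy.1) (hab' _ hx.2 _ hy.2)
  · rw [Nat.card_congr (A.prodEquiv B).toEquiv, Nat.card_prod, pow_add]
    exact Nat.mul_le_mul hc hc'

theorem AbP.of_orderOf {N : ℕ} {K : Type*} [Group K] {x : K} (h : orderOf x = 3 ^ N) : AbP N K := by
  refine ⟨zpowers x, ?_, ?_, ?_⟩
  · exact IsPGroup.of_card (n := N) (by rw [Nat.card_zpowers, h])
  · rintro _ ⟨i, rfl⟩ _ ⟨j, rfl⟩
    exact (Commute.refl x).zpow_zpow i j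
  · rw [Nat.card_zpowers, h]

/-- units of given order -/
theorem exists_unit {F : Type*} [Field F] [Fintype F] {r : ℕ} (hr : r ∣ Fintype.card F - 1) :
    ∃ t : Fˣ, orderOf t = r := by
  classical
  have h1 : r ∣ Nat.card Fˣ := by
    rw [Nat.card_eq_fintype_card, Fintype.card_units]
    exact hr
  obtain ⟨t, ht⟩ := (IsCyclic.exists_ofOrder_eq_natCard (α := Fˣ))
  have hcard : 0 < Nat.card Fˣ := Nat.card_pos
  obtain ⟨d, hd⟩ := h1
  have hr0 : r ≠ 0 := by rintro rfl; rw [zero_mul] at hd; omega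
  have hd0 : d ≠ 0 := by rintro rfl; rw [mul_zero] at hd; omega
  refine ⟨t ^ d, ?_⟩
  rw [orderOf_pow_of_dvd hd0 (by rw [ht, hd]; exact Dvd.intro_left r rfl), ht, hd,
      Nat.mul_div_cancel _ (Nat.pos_of_ne_zero hd0)]

theorem dgHom_injective (F : Type*) [Field F] :
    Function.Injective (Cfsg.Agent.ClassicalGeometry.SplitTorus.dgHom F) := by
  intro s t h
  apply Units.ext
  exact congrArg (fun A : SpecialLinearGroup (Fin 2) F => A 0 0) h

variable {F : Type*} [Field F] [Fintype F] {q : ℕ}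

/-- elements of `SU_2(q)` of order dividing `q + 1` -/
theorem elt_plus (hF : Fintype.card F = q ^ 2) {r : ℕ} (hr : r ∣ q + 1) : ∃ x : SU 2 F q, orderOf x = r := by
  have h1 : r ∣ Fintype.card F - 1 := by
    rw [hF]
    have : q ^ 2 - 1 = (q + 1) * (q - 1) := by
      have := Nat.sq_sub_sq q 1
      simpa using this
    rw [this]
    exact hr.mul_right _
  obtain ⟨s, hord⟩ := exists_unit h1
  have hs : s * s ^ q = 1 := by
    rw [← pow_succ', ← orderOf_dvd_iff_pow_eq_one, hord]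
    exact hr
  have hmem : Cfsg.Agent.ClassicalGeometry.SplitTorus.dgHom F s ∈ SU 2 F q := by
    rw [Cfsg.Agent.S0281.mem_SU_two_iff hF]
    constructor
    · change (s : F) ^ q = ((s⁻¹ : Fˣ) : F)
      rw [← Units.val_pow_eq_pow_val, eq_inv_of_mul_eq_one_right hs]
    · change (0 : F) ^ q = -0
      rw [zero_pow_q hF, neg_zero]
  refine ⟨⟨_, hmem⟩, ?_⟩
  rw [← Subgroup.orderOf_coe, ← hord]
  exact orderOf_injective _ (dgHom_injective F) s

/-- elements of `SU_2(q)` of order dividing `q - 1` -/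
theorem elt_minus (hF : Fintype.card F = q ^ 2) {r : ℕ} (hr : r ∣ q - 1) : ∃ x : SU 2 F q, orderOf x = r := by
  obtain ⟨K, _, _, hK⟩ := Cfsg.Agent.S0280.exists_field hF
  obtain ⟨e⟩ := Cfsg.Agent.S0281.result hF hK
  obtain ⟨s, hord⟩ := exists_unit (F := K) (hK.symm ▸ hr)
  refine ⟨e.symm (Cfsg.Agent.ClassicalGeometry.SplitTorus.dgHom K s), ?_⟩
  rw [MulEquiv.orderOf_eq, ← hord]
  exact orderOf_injective _ (dgHom_injective K) s

/-- an element of order 81 of `SU_2(q)` gives one in `PSU_n(q)` -/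
theorem big_of_81 (hF : Fintype.card F = q ^ 2) {n : ℕ} (hn : 3 ≤ n) {x : SU 2 F q} (hx : orderOf x = 81) :
    Big (PSU n F q) := by
  obtain ⟨m, rfl⟩ := Nat.exists_eq_add_of_le (show 2 ≤ n by omega)
  have hm : 0 < m := by omega
  let f : SU 2 F q →* PSU (2 + m) F q :=
    (QuotientGroup.mk' (center (SU (2 + m) F q))).comp ((blk 2 m F q).comp (MonoidHom.inl _ _))
  refine Or.inr ⟨f x, ?_⟩
  rw [← hx]
  refine orderOf_injective f ?_ x
  rw [injective_iff_map_eq_one]
  intro y hy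
  exact eq_one_left hF hn hm ((QuotientGroup.eq_one_iff _).1 hy)

omit [Fintype F] in
/-- products of the `SU_2(q)` -/
theorem abP_even {a : ℕ} (h : AbP a (SU 2 F q)) (m : ℕ) : AbP (m * a) (SU (2 * m) F q) := by
  induction m with
  | zero => rw [zero_mul]; exact AbP.zero
  | succ m ih =>
    rw [Nat.succ_mul, Nat.mul_succ]
    exact (ih.prod h).of_hom (blk (2 * m) 2 F q) fun x _ hx => (injective_iff_map_eq_one _).1 (blk_injective _ _ _) x hx

omit [Fintype F] in
theorem abP_left {a k : ℕ} (h : AbP a (SU k F q)) (m : ℕ) : AbP a (SU (k + m) F q) := by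
  have := h.prod (AbP.zero (K := SU m F q))
  exact this.of_hom (blk k m F q) fun x _ hx => (injective_iff_map_eq_one _).1 (blk_injective _ _ _) x hx

/-- the matrix of an element -/
def mtx (n : ℕ) (F : Type*) [Field F] (q : ℕ) : SU n F q →* Matrix (Fin n) (Fin n) F :=
  (SpecialLinearGroup.coeMonoidHom).comp (SU n F q).subtype

omit [Fintype F] in
theorem mtx_injective (n q : ℕ) : Function.Injective (mtx n F q) :=
  (SpecialLinearGroup.coeMonoidHom_injective).comp Subtype.val_injective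

/-- into `PSU_n(q)` when the centre has no 3-elements -/
theorem abP_psu (hF : Fintype.card F = q ^ 2) {n : ℕ} (hn : 3 ≤ n) {a : ℕ} (h : AbP a (SU n F q))
    (hc : ¬ 3 ∣ Nat.gcd n (q + 1)) : AbP a (PSU n F q) := by
  refine h.of_hom (QuotientGroup.mk' (center (SU n F q))) ?_
  rintro x ⟨k, hk⟩ hx
  obtain ⟨c, hcn, hcq, rfl⟩ := (mem_center_SU_iff hF hn x).1 ((QuotientGroup.eq_one_iff _).1 hx)
  have hn0 : 0 < n := by omega
  have h1 : c ^ 3 ^ k = 1 := by
    have h4 := congrArg (mtx n F q) hk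
    rw [map_pow, map_one] at h4
    have h5 : mtx n F q (suScalar q c hcn hcq) = diagonal fun _ => c := coe_suScalar q c hcn hcq
    rw [h5, diagonal_pow] at h4
    have h6 := congrFun (congrFun h4 ⟨0, hn0⟩) ⟨0, hn0⟩
    rw [diagonal_apply_eq, one_apply_eq] at h6
    exact h6
  have h2 : orderOf c ∣ 1 := by
    have h3 : Nat.Coprime (3 ^ k) (Nat.gcd n (q + 1)) :=
      Nat.Coprime.pow_left k ((Nat.Prime.coprime_iff_not_dvd Nat.prime_three).2 hc)
    rw [← h3]
    exact Nat.dvd_gcd (orderOf_dvd_iff_pow_eq_one.2 h1)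
      (Nat.dvd_gcd (orderOf_dvd_iff_pow_eq_one.2 hcn) (orderOf_dvd_iff_pow_eq_one.2 hcq))
  have h3 : c = 1 := orderOf_eq_one_iff.1 (Nat.dvd_one.1 h2)
  subst h3
  apply mtx_injective n q
  rw [map_one]
  exact (coe_suScalar q 1 hcn hcq).trans diagonal_one

/-! ### Numbers -/

/-- the product in the order formula -/
def pr (n q : ℕ) : ℕ := ∏ i ∈ Finset.range n, (if Even i then q ^ (i + 1) + 1 else q ^ (i + 1) - 1)

theorem pr_eq {q : ℕ} (hq : 1 ≤ q) (n : ℕ) :
    (∏ i ∈ Finset.range n, ((-(q : ℤ)) ^ (i + 1) - 1)).natAbs = pr n q := by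
  unfold pr
  induction n with
  | zero => rfl
  | succ n ih =>
    rw [Finset.prod_range_succ, Finset.prod_range_succ, Int.natAbs_mul, ih]
    congr 1
    split_ifs with h
    · rw [h.add_one.neg_pow]
      have : (-(q : ℤ) ^ (n + 1) - 1) = -((q ^ (n + 1) + 1 : ℕ) : ℤ) := by push_cast; ring
      rw [this, Int.natAbs_neg, Int.natAbs_natCast]
    · rw [(Nat.not_even_iff_odd.1 h).add_one.neg_pow]
      have h1 : 1 ≤ q ^ (n + 1) := Nat.one_le_pow _ _ hq
      have : ((q : ℤ) ^ (n + 1) - 1) = ((q ^ (n + 1) - 1 : ℕ) : ℤ) := by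
        rw [Nat.cast_sub h1]; push_cast; ring
      rw [this, Int.natAbs_natCast]

theorem pow_ne {q : ℕ} (hq : 2 ≤ q) (i : ℕ) (hi : i ≠ 0) : (-(q : ℤ)) ^ i ≠ 1 := by
  intro h
  have h1 := congrArg Int.natAbs h
  rw [Int.natAbs_pow, Int.natAbs_neg, Int.natAbs_natCast, Int.natAbs_one] at h1
  have := Nat.one_lt_pow hi (show 1 < q by omega)
  omega

theorem v_plus {q : ℕ} (hq : 2 ≤ q) (h3 : 3 ∣ q + 1) (n : ℕ) :
    (pr n q).factorization 3 = n * (q + 1).factorization 3 + n.factorial.factorization 3 := by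
  have : Fact (Nat.Prime 3) := ⟨Nat.prime_three⟩
  have he : orderOf (((-(q : ℤ) : ℤ)) : ZMod 3) = 1 := by
    rw [orderOf_eq_one_iff]
    have : ((q + 1 : ℕ) : ZMod 3) = 0 := (ZMod.natCast_eq_zero_iff _ _).2 h3
    push_cast at this ⊢
    linear_combination -this
  have h := vp_prod (p := 3) (by norm_num) he (pow_ne hq) n
  unfold vp at h
  rw [pr_eq (by omega)] at h
  rw [h, Nat.div_one, pow_one]
  congr 3
  have : (-(q : ℤ) - 1) = -((q + 1 : ℕ) : ℤ) := by push_cast; ring
  rw [this, Int.natAbs_neg, Int.natAbs_natCast]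

theorem zmod3 : (-1 : ZMod 3) ^ 2 = 1 ∧ (-1 : ZMod 3) ≠ 1 := by decide

theorem v_minus {q : ℕ} (hq : 2 ≤ q) (h3 : 3 ∣ q - 1) (n : ℕ) :
    (pr n q).factorization 3 = (n / 2) * (q - 1).factorization 3 + (n / 2).factorial.factorization 3 := by
  have : Fact (Nat.Prime 3) := ⟨Nat.prime_three⟩
  have hq3 : (q : ZMod 3) = 1 := by
    have : ((q - 1 : ℕ) : ZMod 3) = 0 := (ZMod.natCast_eq_zero_iff _ _).2 h3
    rw [Nat.cast_sub (by omega)] at this
    push_cast at this
    linear_combination this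
  have he : orderOf (((-(q : ℤ) : ℤ)) : ZMod 3) = 2 := by
    rw [orderOf_eq_prime_iff]
    push_cast
    rw [hq3]
    exact zmod3
  have h := vp_prod (p := 3) (by norm_num) he (pow_ne hq) n
  unfold vp at h
  rw [pr_eq (by omega)] at h
  rw [h]
  congr 2
  have h4 : ((-(q : ℤ)) ^ 2 - 1) = (((q - 1) * (q + 1) : ℕ) : ℤ) := by
    rw [Nat.cast_mul, Nat.cast_sub (by omega)]
    push_cast
    ring
  rw [h4, Int.natAbs_natCast, Nat.factorization_mul (by omega) (by omega), Finsupp.add_apply]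
  have h5 : ¬ 3 ∣ q + 1 := by omega
  rw [Nat.factorization_eq_zero_of_not_dvd h5, add_zero]

theorem fac_eq {k j : ℕ} (h1 : 3 ^ j ∣ k) (h2 : ¬ 3 ^ (j + 1) ∣ k) : k.factorization 3 = j := by
  have hk : k ≠ 0 := by rintro rfl; exact h2 (dvd_zero _)
  have h3 := (Nat.prime_three.pow_dvd_iff_le_factorization hk).1 h1
  have h4 := mt (Nat.prime_three.pow_dvd_iff_le_factorization hk).2 h2
  omega

/-- **the order equation** -/
theorem order_eq (hF : Fintype.card F = q ^ 2) (h3 : ¬ 3 ∣ q) {n : ℕ} (hn : 3 ≤ n) (hV : Vn 10 (PSU n F q)) :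
    (Nat.gcd n (q + 1)).factorization 3 + ((q + 1).factorization 3 + 10) = (pr n q).factorization 3 := by
  have h := Cfsg.Agent.S0280.result hF n (by omega)
  have hN := fac_eq hV.1 hV.2
  have hN0 : Nat.card (PSU n F q) ≠ 0 := by
    intro h0
    apply hV.2
    rw [h0]
    exact dvd_zero _
  have hg0 : Nat.gcd n (q + 1) ≠ 0 := Nat.gcd_ne_zero_right (by omega)
  have hq0 : 2 ≤ q := two_le hF
  have hp0 : pr n q ≠ 0 := by
    unfold pr
    refine Finset.prod_ne_zero_iff.2 fun i _ => ?_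
    split_ifs
    · omega
    · have := Nat.one_lt_pow (n := i + 1) (by omega) (show 1 < q by omega)
      omega
  have h2 := congrArg (fun k : ℕ => k.factorization 3) h
  change (Nat.gcd n (q + 1) * ((q + 1) * Nat.card (PSU n F q))).factorization 3 =
    (q ^ (n * (n - 1) / 2) * pr n q).factorization 3 at h2
  rw [Nat.factorization_mul hg0 (mul_ne_zero (by omega) hN0), Nat.factorization_mul (by omega) hN0,
    Nat.factorization_mul (pow_ne_zero _ (by omega)) hp0, Nat.factorization_pow] at h2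
  simp only [Finsupp.add_apply, Finsupp.smul_apply, smul_eq_mul, Nat.factorization_eq_zero_of_not_dvd h3, mul_zero,
    zero_add] at h2
  rw [hN] at h2
  exact h2

theorem fac_dvd {k a : ℕ} (hk : k ≠ 0) (h : a ≤ k.factorization 3) : 3 ^ a ∣ k :=
  (Nat.prime_three.pow_dvd_iff_le_factorization hk).2 h

theorem case_plus {n a : ℕ} (hn : 3 ≤ n) (ha : 1 ≤ a) (ha3 : a ≤ 3)
    (h : min (n.factorization 3) a + (a + 10) = n * a + n.factorial.factorization 3) : n = 4 ∧ a = 3 := by
  have h1 : n.factorization 3 ≤ n.factorial.factorization 3 :=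
    (Nat.factorization_le_iff_dvd (by omega) (Nat.factorial_ne_zero n)).2 (Nat.dvd_factorial (by omega) le_rfl) 3
  have h2 : n ≤ 11 := by
    by_contra hlt
    have h3 : 12 * a ≤ n * a := Nat.mul_le_mul_right _ (by omega)
    have := min_le_left (n.factorization 3) a
    omega
  have v3 : (Nat.factorial 3).factorization 3 = 1 := fac_eq (by decide) (by decide)
  have v4 : (Nat.factorial 4).factorization 3 = 1 := fac_eq (by decide) (by decide)
  have v5 : (Nat.factorial 5).factorization 3 = 1 := fac_eq (by decide) (by decide)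
  have v6 : (Nat.factorial 6).factorization 3 = 2 := fac_eq (by decide) (by decide)
  have v7 : (Nat.factorial 7).factorization 3 = 2 := fac_eq (by decide) (by decide)
  have v8 : (Nat.factorial 8).factorization 3 = 2 := fac_eq (by decide) (by decide)
  have v9 : (Nat.factorial 9).factorization 3 = 4 := fac_eq (by decide) (by decide)
  have v10 : (Nat.factorial 10).factorization 3 = 4 := fac_eq (by decide) (by decide)
  have v11 : (Nat.factorial 11).factorization 3 = 4 := fac_eq (by decide) (by decide)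
  have w3 : (3 : ℕ).factorization 3 = 1 := fac_eq (by decide) (by decide)
  have w4 : (4 : ℕ).factorization 3 = 0 := fac_eq (by decide) (by decide)
  have w5 : (5 : ℕ).factorization 3 = 0 := fac_eq (by decide) (by decide)
  have w6 : (6 : ℕ).factorization 3 = 1 := fac_eq (by decide) (by decide)
  have w7 : (7 : ℕ).factorization 3 = 0 := fac_eq (by decide) (by decide)
  have w8 : (8 : ℕ).factorization 3 = 0 := fac_eq (by decide) (by decide)
  have w9 : (9 : ℕ).factorization 3 = 2 := fac_eq (by decide) (by decide)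
  have w10 : (10 : ℕ).factorization 3 = 0 := fac_eq (by decide) (by decide)
  have w11 : (11 : ℕ).factorization 3 = 0 := fac_eq (by decide) (by decide)
  interval_cases n <;> omega

/-- **The row of `PSU_n(q)`** -/
theorem row_psu {n q : ℕ} (hn : 3 ≤ n) {F : Type} [Field F] [Fintype F] (hF : Fintype.card F = q ^ 2)
    (h3 : (3 : F) ≠ 0) : Cfsg.Agent.H777.Elim.Row (Cfsg.PSU n F q) := by
  intro hV
  have hq2 : 2 ≤ q := two_le hF
  have hq3 : ¬ 3 ∣ q := by
    intro h
    apply h3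
    obtain ⟨ℓ, k, hℓp, hℓ, hk, -⟩ := exists_prime_pow hF
    rw [hk] at h
    have h4 := (Nat.prime_dvd_prime_iff_eq Nat.prime_three hℓp).1 (Nat.prime_three.dvd_of_dvd_pow h)
    have h5 := CharP.cast_eq_zero F ℓ
    rw [← h4] at h5
    exact_mod_cast h5
  have heq := order_eq hF hq3 hn hV
  by_cases hp : 3 ∣ q + 1
  · rw [v_plus hq2 hp] at heq
    set a := (q + 1).factorization 3 with ha
    have ha1 : 1 ≤ a := Nat.prime_three.factorization_pos_of_dvd (by omega) hp
    have hdvd : 3 ^ a ∣ q + 1 := fac_dvd (by omega) le_rfl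
    by_cases ha4 : 4 ≤ a
    · obtain ⟨x, hx⟩ := elt_plus hF (r := 81) ((show 81 ∣ 3 ^ a from pow_dvd_pow 3 ha4).trans hdvd)
      exact big_of_81 hF hn hx
    · rw [Nat.factorization_gcd (by omega) (by omega), Finsupp.inf_apply, ← ha] at heq
      obtain ⟨rfl, ha3⟩ := case_plus hn ha1 (by omega) heq
      rw [ha3] at hdvd
      obtain ⟨x, hx⟩ := elt_plus hF hdvd
      have h1 : AbP (2 * 3) (SU (2 * 2) F q) := abP_even (AbP.of_orderOf hx) 2
      exact Or.inl (abP_psu hF (by norm_num) h1 (fun h => by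
        have := h.trans (Nat.gcd_dvd_left _ _)
        revert this
        decide))
  · have hm : 3 ∣ q - 1 := by omega
    rw [v_minus hq2 hm, Nat.factorization_eq_zero_of_not_dvd hp, Nat.factorization_eq_zero_of_not_dvd
      (fun h => hp (h.trans (Nat.gcd_dvd_right _ _)))] at heq
    set a := (q - 1).factorization 3 with ha
    have ha1 : 1 ≤ a := Nat.prime_three.factorization_pos_of_dvd (by omega) hm
    have hdvd : 3 ^ a ∣ q - 1 := fac_dvd (by omega) le_rfl
    by_cases ha4 : 4 ≤ a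
    · obtain ⟨x, hx⟩ := elt_minus hF (r := 81) ((show 81 ∣ 3 ^ a from pow_dvd_pow 3 ha4).trans hdvd)
      exact big_of_81 hF hn hx
    · obtain ⟨x, hx⟩ := elt_minus hF hdvd
      have h1 : AbP ((n / 2) * a) (SU (2 * (n / 2)) F q) := abP_even (AbP.of_orderOf hx) _
      have h2 := abP_left h1 (n % 2)
      rw [Nat.div_add_mod] at h2
      have h4 : n / 2 ≤ 10 := by
        have : (n / 2) * 1 ≤ (n / 2) * a := Nat.mul_le_mul_left _ ha1
        omega
      have h5 : (n / 2).factorial.factorization 3 ≤ 4 := by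
        have h6 : (Nat.factorial 10).factorization 3 = 4 := fac_eq (by decide) (by decide)
        rw [← h6]
        exact (Nat.factorization_le_iff_dvd (Nat.factorial_ne_zero _) (Nat.factorial_ne_zero _)).2
          (Nat.factorial_dvd_factorial h4) 3
      have h6 : 6 ≤ (n / 2) * a := by omega
      exact Or.inl (abP_psu hF hn (h2.mono h6) (fun h => hp (h.trans (Nat.gcd_dvd_right _ _))))

end Cfsg.Agent.H325.RowPSU
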